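import Groth.Agent.Lib.CohFound.ProjQuot

/-!
Quotients of sums of twists on `Proj`, without Noetherian hypotheses.
-/

set_option autoImplicit false

universe u

open CategoryTheory Limits AlgebraicGeometry TopologicalSpace Opposite

namespace Groth.Agent.GrMod11

variable {X : Scheme.{u}}

/-- At each point finitely many of the generating sections suffice. -/
theorem exists_finset_surjective_stalk {G : X.Modules} (hGq : Coh.IsQCoh G) (hGf : CohB1.IsFT G) {ι : Type u}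
    (p : M1.fr ι ⟶ G) [Epi p] (x : X) :
    ∃ S : Finset ι, Function.Surjective ((M1.stalkAb x).map (CohFound.finPart p S)) := by
  classical
  let H : AddSubgroup ((M1.stalkAb x).obj G) :=
    ⨆ S : Finset ι, ((M1.stalkAb x).map (CohFound.finPart p S)).hom.range
  have hone : ∀ (i : ι) a, (M1.stalkAb x).map p ((M1.stalkAb x).map (M1.ιF i) a) ∈ H := by
    intro i a
    have h1 := (M1.stalk_comp_apply (M1.ιF i) p x a).symm
    rw [h1, CohFound.ιF_finPart p i]
    have h2 := CohFound.range_stalk_comp_le (M1.ιF (ULift.up ⟨i, Finset.mem_singleton_self i⟩)) (CohFound.finPart p {i}) x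
      (AddMonoidHom.mem_range.2 ⟨a, rfl⟩)
    exact le_iSup (fun S : Finset ι => ((M1.stalkAb x).map (CohFound.finPart p S)).hom.range) {i} h2
  have htop : ∀ b, b ∈ H := fun b => by
    obtain ⟨a, rfl⟩ := (M1.epi_iff_stalk p).1 inferInstance x b
    exact CohFound.stalk_map_mem p x H hone a
  obtain ⟨T, hT⟩ := (M1.finite_stalk hGq hGf x).fg_top
  have hdir : Directed (· ≤ ·) fun S : Finset ι => ((M1.stalkAb x).map (CohFound.finPart p S)).hom.range :=
    fun S₁ S₂ => ⟨S₁ ∪ S₂, CohFound.range_finPart_mono p Finset.subset_union_left x,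
      CohFound.range_finPart_mono p Finset.subset_union_right x⟩
  have hex : ∀ b : (M1.stalkAb x).obj G, ∃ S : Finset ι,
      b ∈ ((M1.stalkAb x).map (CohFound.finPart p S)).hom.range :=
    fun b => (AddSubgroup.mem_iSup_of_directed hdir).1 (htop b)
  choose g hg using hex
  let f : T → Finset ι := fun t => g t.1
  have hf : ∀ t : T, (t.1 : (M1.stalkAb x).obj G) ∈ ((M1.stalkAb x).map (CohFound.finPart p (f t))).hom.range :=
    fun t => hg t.1
  let S₀ : Finset ι := Finset.univ.sup f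
  have hall : ∀ t : T, (t.1 : (M1.stalkAb x).obj G) ∈ ((M1.stalkAb x).map (CohFound.finPart p S₀)).hom.range := fun t => by
    have h1 : f t ⊆ S₀ := Finset.le_sup (f := f) (Finset.mem_univ t)
    exact CohFound.range_finPart_mono p h1 x (hf t)
  refine ⟨S₀, CohFound.surjective_stalk_of_span (CohFound.finPart p S₀) x T hT fun t ht => ?_⟩
  exact hall ⟨t, ht⟩

/-- A globally generated module of finite type on a compact space is a quotient of a finite free
module. -/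
theorem exists_epi_freeMod [CompactSpace X] {G : X.Modules} (hGq : Coh.IsQCoh G) (hGf : CohB1.IsFT G)
    (hgg : Curv2.IsGloballyGenerated G) : ∃ (k : ℕ) (p : FlatMod.freeMod X k ⟶ G), Epi p := by
  classical
  obtain ⟨ι, p', hp⟩ := hgg
  let p : M1.fr ι ⟶ G := p'
  have : Epi p := hp
  choose S hS using fun x : X => exists_finset_surjective_stalk hGq hGf p x
  obtain ⟨P, hP⟩ := isCompact_univ.elim_finite_subcover
    (fun x => (CohB1.support (cokernel (CohFound.finPart p (S x))))ᶜ)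
    (fun x => (M1.isClosed_support (M1.isFT_of_epi (cokernel.π (CohFound.finPart p (S x))) hGf)).isOpen_compl)
    fun x _ => Set.mem_iUnion.2 ⟨x, (CohFound.notMem_support_cokernel_iff _ x).2 (hS x)⟩
  let q := CohFound.finPart p (P.sup S)
  have hsurj : ∀ x : X, Function.Surjective ((M1.stalkAb x).map q) := fun x b => by
    obtain ⟨j, hj, hx⟩ := Set.mem_iUnion₂.1 (hP (Set.mem_univ x))
    exact CohFound.range_finPart_mono p (Finset.le_sup (f := S) hj) x ((CohFound.notMem_support_cokernel_iff _ x).1 hx b)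
  have hq : Epi q := (M1.epi_iff_stalk _).2 hsurj
  let ε : Fin (Fintype.card (ULift.{u} (P.sup S : Finset ι))) ≃ ULift.{u} (P.sup S : Finset ι) :=
    (Fintype.equivFin _).symm
  exact ⟨_, (Sigma.whiskerEquiv (f := fun _ => Coh.structureModule X) (g := fun _ => Coh.structureModule X)
    ε fun _ => Iso.refl _).hom ≫ q, @epi_comp _ _ _ _ _ _ inferInstance _ hq⟩

variable {R A : Type u} [CommRing R] [CommRing A] [Algebra R A] (𝒜 : ℕ → Submodule R A) [GradedAlgebra 𝒜]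

/-- Quasi-coherent modules of finite type are quotients of sums of negative twists. -/
theorem exists_epi_twist_of_ft {ι : Type*} [Finite ι] (g : ι → A) (hg : ∀ i, g i ∈ 𝒜 1)
    (hgen : (HomogeneousIdeal.irrelevant 𝒜).toIdeal ≤ Ideal.span (Set.range g))
    (F : (Proj 𝒜).Modules) (hF : Coh.IsQCoh F) (hFT : CohB1.IsFT F) :
    ∃ n₀ : ℕ, ∀ m : ℕ, n₀ ≤ m → ∃ (k : ℕ) (π : (∐ fun _ : Fin k => _root_.Twist.twist 𝒜 (-(m : ℤ))) ⟶ F),
      Epi π := by
  have hcov : (⨆ f : 𝒜 1, Proj.basicOpen 𝒜 (f : A)) = ⊤ := top_le_iff.1 fun x _ => by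
    have hx : x ∈ (⨆ i, Proj.basicOpen 𝒜 (g i)) := by
      rw [Proj.iSup_basicOpen_eq_top 𝒜 g hgen]; trivial
    obtain ⟨i, hi⟩ := Opens.mem_iSup.1 hx
    exact Opens.mem_iSup.2 ⟨⟨g i, hg i⟩, hi⟩
  have hamp : CohB1.IsAmple (_root_.Twist.twist 𝒜 1) := Twist.isAmple_twist 𝒜 g hg hgen (d := 1) one_pos
  have : CompactSpace (Proj 𝒜) := hamp.2.1
  obtain ⟨n₀, hn₀⟩ := RA.exists_globallyGenerated hamp F hF hFT
  refine ⟨n₀, fun m hm => ?_⟩
  have hL : ∀ d : ℤ, Coh.IsCoh (_root_.Twist.twist 𝒜 d) := fun d =>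
    CohFound.isCoh_of_isFinLocFree (M2.isFinLocFree_of_isInvertible (Twist.isInvertible_twist 𝒜 hcov d))
  obtain ⟨ep⟩ := Twist.nonempty_iso_tensorPow 𝒜 hcov m
  let P := CohB1.tensorPow (_root_.Twist.twist 𝒜 1) m
  let E := _root_.Twist.twist 𝒜 (-(m : ℤ))
  obtain ⟨t⟩ := Twist.nonempty_tensor_iso 𝒜 (m : ℤ) (-(m : ℤ)) hcov
  obtain ⟨z⟩ := Twist.nonempty_twist_zero_iso 𝒜
  let u : CohB1.tensorMod P E ≅ Coh.structureModule (Proj 𝒜) :=
    M2.tensorIso ep.symm (Iso.refl E) ≪≫ t ≪≫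
      eqToIso (congrArg (_root_.Twist.twist 𝒜) (add_neg_cancel (m : ℤ))) ≪≫ z
  let back : CohB1.tensorMod (CohB1.tensorMod F P) E ≅ F :=
    M2.tensorAssoc F P E ≪≫ M2.tensorIso (Iso.refl F) u ≪≫ M2.tensorRUnit F
  have hFP : Coh.IsCoh (CohB1.tensorMod F P) := CohFound.isCoh_tensor ⟨hF, hFT⟩ (CohFound.isCoh_of_iso ep (hL m))
  obtain ⟨k, p, hp⟩ := exists_epi_freeMod hFP.1 hFP.2 (hn₀ m hm)
  have : Epi p := hp
  have := CohFound.epi_tensorMap p E
  exact ⟨k, (M2.freeModTensorIso _ k E).inv ≫ M2.tensorMap p (𝟙 E) ≫ back.hom, inferInstance⟩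

/-- The `n`-th powers of degree one generators generate `O(n)`. -/
theorem exists_epi_freeMod_twist {ι : Type u} [Finite ι] (g : ι → A) (hg : ∀ i, g i ∈ 𝒜 1)
    (hgen : (HomogeneousIdeal.irrelevant 𝒜).toIdeal ≤ Ideal.span (Set.range g)) (n : ℕ) :
    ∃ (k : ℕ) (p : FlatMod.freeMod (Proj 𝒜) k ⟶ _root_.Twist.twist 𝒜 (n : ℤ)), Epi p := by
  classical
  have := Fintype.ofFinite ι
  let s : ι → Γ(_root_.Twist.twist 𝒜 (n : ℤ), ⊤) := fun i =>
    Twist.gsec 𝒜 ⟨g i ^ n, by simpa using SetLike.pow_mem_graded n (hg i)⟩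
  let p : M1.fr ι ⟶ _root_.Twist.twist 𝒜 (n : ℤ) := M1.freeHom s
  have hp : Epi p := by
    refine (M1.epi_iff_locally_surjective p).2 fun U t x hx => ?_
    obtain ⟨i, hi⟩ := Opens.mem_iSup.1
      ((Proj.iSup_basicOpen_eq_top 𝒜 g hgen).ge (show x ∈ (⊤ : (Proj 𝒜).Opens) from trivial))
    have hle : U ⊓ Proj.basicOpen 𝒜 (g i) ≤ Proj.basicOpen 𝒜 (g i ^ n) := fun y hy h =>
      hy.2 (y.isPrime.mem_of_pow_mem n h)
    obtain ⟨r, hr⟩ := (Twist.bijective_smul_gsec 𝒜 ⟨g i ^ n, by simpa using SetLike.pow_mem_graded n (hg i)⟩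
      _ hle).2 (M1.mres _ (inf_le_left : U ⊓ Proj.basicOpen 𝒜 (g i) ≤ U) t)
    refine ⟨_, inf_le_left, ⟨hx, hi⟩, r • (M1.ιF i).app _ (M1.one _), ?_⟩
    rw [Scheme.Modules.Hom.app_smul, ← M1.comp_app_apply, M1.ιF_freeHom]
    refine Eq.trans ?_ hr
    show r • (M1.secHom (s i)).app _ (M1.one _) = r • _
    rw [← M1.mres_one (le_top : U ⊓ Proj.basicOpen 𝒜 (g i) ≤ ⊤), M1.app_mres, M1.secHom_app_one]
  exact ⟨_, (Sigma.whiskerEquiv (f := fun _ => Coh.structureModule (Proj 𝒜)) (g := fun _ => Coh.structureModule (Proj 𝒜))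
    (Fintype.equivFin ι).symm fun _ => Iso.refl _).hom ≫ p, @epi_comp _ _ _ _ _ _ inferInstance _ hp⟩

end Groth.Agent.GrMod11
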