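import Groth.Agent.Lib.ModM1.Loc

/-!
Bijectivity of a morphism of modules, checked on small opens.
-/

set_option autoImplicit false

open CategoryTheory CategoryTheory.Limits AlgebraicGeometry TopologicalSpace Opposite

universe u

namespace Groth.Agent.GrMod11

open Groth.Agent.M1

/-- A morphism bijective on arbitrarily small opens around the points of `U₀` is bijective on the opens of `U₀`. -/
theorem bijective_app_of_small {X : Scheme.{u}} {M N : X.Modules} (φ : M ⟶ N) (U₀ : X.Opens)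
    (H : ∀ V : X.Opens, V ≤ U₀ → ∀ x ∈ V, ∃ b : X.Opens, x ∈ b ∧ b ≤ V ∧ Function.Bijective (φ.app b))
    {V : X.Opens} (hV : V ≤ U₀) : Function.Bijective (φ.app V) := by
  have key : ∀ W : X.Opens, W ≤ U₀ → Function.Injective (φ.app W) := fun W hW a a' e => by
    choose b hxb hbW hb using fun x : W => H W hW x.1 x.2
    refine TopCat.Sheaf.eq_of_locally_eq' ⟨M.presheaf, M.isSheaf⟩ b W (fun x => homOfLE (hbW x))
      (fun x hx => Opens.mem_iSup.2 ⟨⟨x, hx⟩, hxb ⟨x, hx⟩⟩) a a' fun x => (hb x).1 ?_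
    show φ.app _ (mres M (hbW x) a) = φ.app _ (mres M (hbW x) a')
    rw [app_mres, app_mres, e]
  refine ⟨key V hV, fun t => ?_⟩
  choose b hxb hbV hb using fun x : V => H V hV x.1 x.2
  choose m hm using fun x : V => (hb x).2 (mres N (hbV x) t)
  have hcov : V ≤ iSup b := fun x hx => Opens.mem_iSup.2 ⟨⟨x, hx⟩, hxb ⟨x, hx⟩⟩
  obtain ⟨g, hg, -⟩ := TopCat.Sheaf.existsUnique_gluing' ⟨M.presheaf, M.isSheaf⟩ b V
    (fun x => homOfLE (hbV x)) hcov m fun x y => by
      show mres M (inf_le_left : b x ⊓ b y ≤ b x) (m x) = mres M (inf_le_right : b x ⊓ b y ≤ b y) (m y)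
      refine key _ (inf_le_left.trans ((hbV x).trans hV)) ?_
      rw [app_mres, app_mres, hm, hm, mres_mres, mres_mres]
  refine ⟨g, TopCat.Sheaf.eq_of_locally_eq' ⟨N.presheaf, N.isSheaf⟩ b V (fun x => homOfLE (hbV x)) hcov _ _
    fun x => ?_⟩
  show mres N (hbV x) (φ.app V g) = mres N (hbV x) t
  rw [← app_mres, show mres M (hbV x) g = m x from hg x, hm]

end Groth.Agent.GrMod11
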