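import Groth.Agent.Lib.GrMod11.Basic
import Groth.Agent.Lib.GrTw11.Frac

/-!
Sections of `M(n)~` over `D₊(h)` are fractions `m / h ^ k`.
-/

set_option autoImplicit false

open CategoryTheory CategoryTheory.Limits AlgebraicGeometry TopologicalSpace Opposite

universe u

namespace Groth.Agent.GrMod11

open _root_.GrMod Groth.Agent.GrTw11

variable {A σ : Type u} [CommRing A] [SetLike σ A] [AddSubgroupClass σ A] (𝒜 : ℕ → σ) [GradedRing 𝒜]
  {M τ : Type u} [AddCommGroup M] [Module A M] [SetLike τ M] [AddSubgroupClass τ M] (ℳ : ℕ → τ)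
  [SetLike.GradedSMul 𝒜 ℳ] [DirectSum.Decomposition ℳ]

/-- A homogeneous element vanishing on `D₊(h)` is killed by a power of `h`. -/
theorem exists_pow_smul_eq_zero_of_forall {h : A} {d : ℕ} (hd : 0 < d) (hh : h ∈ 𝒜 d) {e : ℕ} {c : M}
    (hc : c ∈ ℳ e)
    (H : ∀ x : ProjectiveSpectrum 𝒜, h ∉ x.asHomogeneousIdeal → ∃ w : A, w ∉ x.asHomogeneousIdeal ∧ w • c = 0) :
    ∃ N : ℕ, h ^ N • c = 0 := by
  classical
  let S : Set A := {w | SetLike.IsHomogeneousElem 𝒜 w ∧ w • c = 0}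
  obtain ⟨N, hN⟩ := exists_pow_mem_of_forall 𝒜 (Ideal.homogeneous_span 𝒜 S fun w hw => hw.1) hd hh
    fun x hx hle => by
      obtain ⟨w, hw, hwc⟩ := H x hx
      obtain ⟨l, w', hl, hw', hwc'⟩ := exists_homogeneous_annihilator 𝒜 ℳ hc hw hwc
      exact hw' (hle (Ideal.subset_span ⟨⟨l, hl⟩, hwc'⟩))
  refine ⟨N, ?_⟩
  generalize h ^ N = y at hN
  induction hN using Submodule.span_induction with
  | mem w hw => exact hw.2
  | zero => exact zero_smul A c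
  | add a b _ _ ha hb => rw [add_smul, ha, hb, add_zero]
  | smul r a _ ha => rw [smul_eq_mul, mul_smul, ha, smul_zero]

/-- A fraction zero on `D₊(h)` has numerator killed by a power of `h`. -/
theorem exists_pow_smul_eq_zero_of_mk {h : A} {d : ℕ} (hd : 0 < d) (hh : h ∈ 𝒜 d) {i : ℕ} {m : M} (hm : m ∈ ℳ i)
    (H : ∀ x : ProjectiveSpectrum 𝒜, h ∉ x.asHomogeneousIdeal → ∃ (s : A) (hs : s ∉ x.asHomogeneousIdeal),
      mkx 𝒜 x m s hs = 0) :
    ∃ N : ℕ, h ^ N • m = 0 :=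
  exists_pow_smul_eq_zero_of_forall 𝒜 ℳ hd hh hm fun x hx => by
    obtain ⟨s, hs, e⟩ := H x hx
    exact (mkx_eq_zero_iff 𝒜 hs).1 e

omit [DirectSum.Decomposition ℳ] in
/-- A local fraction for a section, on a basic open. -/
theorem exists_local_frac {n : ℤ} {U : (Proj 𝒜).Opens} (s : Sec (ℳ := ℳ) n U) (x : ProjectiveSpectrum 𝒜)
    (hx : x ∈ U) :
    ∃ (e i : ℕ) (g : A) (a : M), 0 < e ∧ g ∈ 𝒜 e ∧ a ∈ ℳ i ∧ (i : ℤ) = e + n ∧ x ∈ Proj.basicOpen 𝒜 g ∧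
      Proj.basicOpen 𝒜 g ≤ U ∧ ∀ y (hy : y ∈ U) (hg : g ∉ (y : ProjectiveSpectrum 𝒜).asHomogeneousIdeal),
        val s y hy = mkx 𝒜 y a g hg := by
  rcases s.2 ⟨x, hx⟩ with ⟨V, hxV, ι, i, j, ⟨a, ha⟩, ⟨t, ht⟩, nin, cond, w⟩
  replace cond : (i : ℤ) = j + n ∨ a = 0 := cond
  obtain ⟨_, ⟨g₀, rfl⟩, hxg, hgV⟩ := TopologicalSpace.Opens.isBasis_iff_nbhd.1 (Proj.isBasis_basicOpen 𝒜) hxV
  rw [Proj.basicOpen_eq_iSup_proj] at hxg hgV
  obtain ⟨l, hl⟩ := TopologicalSpace.Opens.mem_iSup.1 hxg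
  have hcov : x ∈ (⨆ g : {g : A // ∃ k : ℕ, 0 < k ∧ g ∈ 𝒜 k}, Proj.basicOpen 𝒜 g.1) := by
    rw [RelProj11.iSup_basicOpen_pos 𝒜]; trivial
  obtain ⟨⟨g₁, k, hk, hg₁⟩, hx₁⟩ := TopologicalSpace.Opens.mem_iSup.1 hcov
  -- enlarge the degree
  let p := n.natAbs + 1
  let g := GradedRing.proj 𝒜 l g₀ * g₁ ^ p
  have hg : g ∈ 𝒜 (l + p * k) := SetLike.mul_mem_graded (SetLike.coe_mem _) (pow_mem_smul 𝒜 hg₁ p)
  have hgle : Proj.basicOpen 𝒜 g ≤ V := by
    rw [Proj.basicOpen_mul]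
    exact inf_le_left.trans ((le_iSup (fun i => Proj.basicOpen 𝒜 (GradedRing.proj 𝒜 i g₀)) l).trans hgV)
  have hxg' : g ∉ x.asHomogeneousIdeal := fun h =>
    (x.isPrime.mem_or_mem h).elim hl (fun h' => pow_notMem 𝒜 hx₁ p h')
  have hpk : n.natAbs < p * k := by
    calc n.natAbs < p := Nat.lt_succ_self _
      _ = p * 1 := (mul_one p).symm
      _ ≤ p * k := Nat.mul_le_mul_left p hk
  refine ⟨l + p * k + j, ((l + p * k + j : ℕ) + n).toNat, g * t, g • a, by omega,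
    SetLike.mul_mem_graded hg ht, ?_, by omega, fun h => (x.isPrime.mem_or_mem h).elim hxg' (nin ⟨x, hxV⟩),
    (Proj.basicOpen_mono 𝒜 _ _ (dvd_mul_right g t)).trans (hgle.trans ι.le), fun y hy hgt => ?_⟩
  · rcases cond with hd | hd
    · convert smul_mem_graded 𝒜 hg ha using 2
      omega
    · rw [hd, smul_zero]; exact zero_mem _
  · have hyg : g ∉ y.asHomogeneousIdeal := fun h => hgt (Ideal.mul_mem_right _ _ h)
    have hyV : y ∈ V := hgle hyg
    refine (show val s y hy = mkx 𝒜 y a t (nin ⟨y, hyV⟩) from w ⟨y, hyV⟩).trans ?_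
    exact (mkx_eq_iff 𝒜 _ _).2 ⟨1, one_nin y, by simp only [one_smul, smul_smul, mul_comm g t]⟩

/-- A section over `D₊(h)` is a fraction `m / h ^ k`. -/
theorem exists_eq_frac_of_pos {h : A} {d : ℕ} (hd : 0 < d) (hh : h ∈ 𝒜 d) {n : ℤ}
    (s : Sec (ℳ := ℳ) n (Proj.basicOpen 𝒜 h)) :
    ∃ (i k : ℕ) (m : M), m ∈ ℳ i ∧ (i : ℤ) = k * d + n ∧
      ∀ x (hx : x ∈ Proj.basicOpen 𝒜 h), val s x hx = mkx 𝒜 x m (h ^ k) (pow_notMem 𝒜 hx k) := by
  classical
  let U := Proj.basicOpen 𝒜 h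
  choose e i g a he hg ha hdeg hxg hgU hval using fun x : U => exists_local_frac 𝒜 ℳ s x.1 x.2
  obtain ⟨T, hT⟩ := (Proj.isAffineOpen_basicOpen 𝒜 h hh hd).isCompact.elim_finite_subcover
    (fun x : U => ((Proj.basicOpen 𝒜 (g x) : (Proj 𝒜).Opens) : Set (Proj 𝒜)))
    (fun x => (Proj.basicOpen 𝒜 (g x)).2) (fun x hx => Set.mem_iUnion.2 ⟨⟨x, hx⟩, hxg ⟨x, hx⟩⟩)
  have hcross : ∀ x y : T, ∃ N : ℕ, (g x.1 * g y.1) ^ N • (g y.1 • a x.1 - g x.1 • a y.1) = 0 := fun x y => by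
    refine exists_pow_smul_eq_zero_of_forall 𝒜 ℳ (d := e x.1 + e y.1) (e := e y.1 + i x.1) (by have := he x.1; omega)
      (SetLike.mul_mem_graded (hg _) (hg _)) (sub_mem (smul_mem_graded 𝒜 (hg _) (ha _)) ?_) fun z hz => ?_
    · convert smul_mem_graded 𝒜 (hg x.1) (ha y.1) using 2
      have := hdeg x.1; have := hdeg y.1; omega
    · have hzx : g x.1 ∉ z.asHomogeneousIdeal := fun h' => hz (Ideal.mul_mem_right _ _ h')
      have hzy : g y.1 ∉ z.asHomogeneousIdeal := fun h' => hz (Ideal.mul_mem_left _ _ h')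
      have hzU : z ∈ U := hgU x.1 hzx
      obtain ⟨w, hw, hwe⟩ := (mkx_eq_iff 𝒜 _ _).1 ((hval x.1 z hzU hzx).symm.trans (hval y.1 z hzU hzy))
      exact ⟨w, hw, by rw [smul_sub, hwe, sub_self]⟩
  choose N hN using hcross
  let L := ∑ p : T × T, N p.1 p.2
  let g' : T → A := fun x => g x.1 ^ (L + 1)
  let a' : T → M := fun x => g x.1 ^ L • a x.1
  have hg' : ∀ x, g' x ∈ 𝒜 ((L + 1) * e x.1) := fun x => pow_mem_smul 𝒜 (hg _) _
  have ha' : ∀ x : T, a' x ∈ ℳ (L * e x.1 + i x.1) := fun x =>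
    smul_mem_graded 𝒜 (pow_mem_smul 𝒜 (hg _) _) (ha _)
  have hg'a : ∀ x y : T, g' y • a' x = g' x • a' y := fun x y => by
    have hle : N x y ≤ L := Finset.single_le_sum (f := fun p : T × T => N p.1 p.2)
      (fun p _ => Nat.zero_le _) (Finset.mem_univ (x, y))
    refine sub_eq_zero.1 ?_
    calc g' y • a' x - g' x • a' y
        = (g x.1 * g y.1) ^ (L - N x y) • ((g x.1 * g y.1) ^ N x y • (g y.1 • a x.1 - g x.1 • a y.1)) := by
          rw [smul_smul ((g x.1 * g y.1) ^ (L - N x y)), ← pow_add, Nat.sub_add_cancel hle]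
          simp only [g', a', smul_smul, smul_sub]
          congr 2 <;> ring
      _ = 0 := by rw [hN, smul_zero]
  obtain ⟨k₀, hk₀⟩ := exists_pow_mem_of_forall 𝒜 (I := Ideal.span (Set.range g'))
    (Ideal.homogeneous_span 𝒜 _ (by rintro _ ⟨x, rfl⟩; exact ⟨_, hg' x⟩)) hd hh fun z hz hle => by
      obtain ⟨x, hxT, hzx⟩ := Set.mem_iUnion₂.1 (hT (show z ∈ (U : Set (Proj 𝒜)) from hz))
      exact pow_notMem 𝒜 hzx (L + 1) (hle (Ideal.subset_span ⟨⟨x, hxT⟩, rfl⟩))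
  let k := k₀ + n.natAbs
  have hk : h ^ k ∈ Ideal.span (Set.range g') := by
    simp only [k, pow_add]; exact Ideal.mul_mem_right _ _ hk₀
  obtain ⟨c, hc⟩ := (Submodule.mem_span_range_iff_exists_fun A).1 hk
  let E : T → ℕ := fun x => (L + 1) * e x.1
  let c' : T → A := fun x => if E x ≤ k * d then (DirectSum.decompose 𝒜 (c x) (k * d - E x) : A) else 0
  have hc' : ∑ x, c' x * g' x = h ^ k := by
    calc ∑ x, c' x * g' x = ∑ x, GradedRing.proj 𝒜 (k * d) (c x • g' x) := by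
          refine Finset.sum_congr rfl fun x _ => ?_
          rw [GradedRing.proj_apply, smul_eq_mul, DirectSum.coe_decompose_mul_of_right_mem 𝒜 (k * d) (hg' x)]
          simp only [c', E]
          split_ifs <;> simp
      _ = h ^ k := by
          rw [← map_sum, hc, GradedRing.proj_apply, DirectSum.decompose_of_mem_same 𝒜 (pow_mem_smul 𝒜 hh k)]
  have hkn : n.natAbs ≤ k * d := (Nat.le_add_left _ _).trans (Nat.le_mul_of_pos_right k hd)
  refine ⟨((k * d : ℕ) + n).toNat, k, ∑ x, c' x • a' x, sum_mem fun x _ => ?_, by push_cast; omega,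
    fun z hz => ?_⟩
  · simp only [c']
    split_ifs with hle
    · convert smul_mem_graded 𝒜 (DirectSum.decompose 𝒜 (c x) (k * d - E x)).2 (ha' x) using 2
      have := hdeg x.1
      have hE : E x = L * e x.1 + e x.1 := by simp [E]; ring
      generalize k * d = P at *
      generalize L * e x.1 = Q at *
      omega
    · rw [zero_smul]; exact zero_mem _
  · obtain ⟨x, hxT, hzx⟩ := Set.mem_iUnion₂.1 (hT hz)
    refine (hval x z hz hzx).trans ((mkx_eq_iff 𝒜 _ _).2 ⟨g x ^ L, pow_notMem 𝒜 hzx L, ?_⟩)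
    have key : g' ⟨x, hxT⟩ • (∑ y, c' y • a' y) = h ^ k • a' ⟨x, hxT⟩ := by
      rw [← hc', Finset.smul_sum, Finset.sum_smul]
      refine Finset.sum_congr rfl fun y _ => ?_
      rw [smul_comm, ← hg'a, smul_smul]
    calc g x ^ L • h ^ k • a x = h ^ k • a' ⟨x, hxT⟩ := by rw [smul_comm]
      _ = g' ⟨x, hxT⟩ • (∑ y, c' y • a' y) := key.symm
      _ = _ := by simp only [g']; rw [pow_succ, mul_smul]

end Groth.Agent.GrMod11
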