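import Groth.Prelude.Def_RelProj3
import Groth.Agent.Lib.GrMod11.Frac
import Groth.Agent.Lib.GrMod11.Basis
import Groth.Agent.Lib.GrTw11.Comap

/-!
When the comparison `M(n)~ ⟶ Φ_* N(n)~` is bijective on sections.
-/

set_option autoImplicit false

open CategoryTheory CategoryTheory.Limits AlgebraicGeometry TopologicalSpace Opposite
open scoped HomogeneousIdeal

universe u

namespace Groth.Agent.GrMod11

open _root_.GrMod Groth.Agent.RelProj11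

variable {A σ : Type u} [CommRing A] [SetLike σ A] [AddSubgroupClass σ A] {𝒜 : ℕ → σ} [GradedRing 𝒜]
  {B σ' : Type u} [CommRing B] [SetLike σ' B] [AddSubgroupClass σ' B] {ℬ : ℕ → σ'} [GradedRing ℬ]
  (ψ : 𝒜 →+*ᵍ ℬ) (hψ : ℬ₊ ≤ (𝒜₊).map ψ)
  {M τ : Type u} [AddCommGroup M] [Module A M] [SetLike τ M] [AddSubgroupClass τ M] {ℳ : ℕ → τ}
  [SetLike.GradedSMul 𝒜 ℳ] [DirectSum.Decomposition ℳ]
  {N τ' : Type u} [AddCommGroup N] [Module B N] [SetLike τ' N] [AddSubgroupClass τ' N] {𝒩 : ℕ → τ'}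
  [SetLike.GradedSMul ℬ 𝒩] [DirectSum.Decomposition 𝒩]
  (v : M →ₛₗ[ψ.toRingHom] N) (hv : ∀ (i : ℕ) (m : M), m ∈ ℳ i → v m ∈ 𝒩 i)

omit [AddSubgroupClass τ M] [SetLike.GradedSMul 𝒜 ℳ] [DirectSum.Decomposition ℳ] [AddSubgroupClass τ' N]
  [SetLike.GradedSMul ℬ 𝒩] [DirectSum.Decomposition 𝒩] in
theorem locModMap_mkx (y : ProjectiveSpectrum ℬ) (m : M) (s : A)
    (hs : s ∉ (ProjectiveSpectrum.comap ψ hψ y).asHomogeneousIdeal) :
    locModMap ψ hψ v y (mkx 𝒜 _ m s hs) = mkx ℬ y (v m) (ψ s) hs := rfl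

omit [AddSubgroupClass τ M] [SetLike.GradedSMul 𝒜 ℳ] [DirectSum.Decomposition ℳ] [AddSubgroupClass τ' N]
  [SetLike.GradedSMul ℬ 𝒩] [DirectSum.Decomposition 𝒩] in
theorem exists_basicOpen_pos_nhd (𝒜 : ℕ → σ) [GradedRing 𝒜] {V : (Proj 𝒜).Opens} {x : Proj 𝒜} (hx : x ∈ V) :
    ∃ g : A, (∃ d : ℕ, 0 < d ∧ g ∈ 𝒜 d) ∧ x ∈ Proj.basicOpen 𝒜 g ∧ Proj.basicOpen 𝒜 g ≤ V := by
  obtain ⟨_, ⟨g₀, rfl⟩, hxg, hgV⟩ := TopologicalSpace.Opens.isBasis_iff_nbhd.1 (Proj.isBasis_basicOpen 𝒜) hx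
  rw [Proj.basicOpen_eq_iSup_proj] at hxg hgV
  obtain ⟨l, hl⟩ := TopologicalSpace.Opens.mem_iSup.1 hxg
  have hcov : x ∈ (⨆ g : {g : A // ∃ k : ℕ, 0 < k ∧ g ∈ 𝒜 k}, Proj.basicOpen 𝒜 g.1) := by
    rw [RelProj11.iSup_basicOpen_pos 𝒜]; trivial
  obtain ⟨⟨g₁, k, hk, hg₁⟩, hx₁⟩ := TopologicalSpace.Opens.mem_iSup.1 hcov
  refine ⟨GradedRing.proj 𝒜 l g₀ * g₁, ⟨l + k, by omega, SetLike.mul_mem_graded (SetLike.coe_mem _) hg₁⟩, ?_, ?_⟩
  · rw [Proj.basicOpen_mul]; exact ⟨hl, hx₁⟩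
  · rw [Proj.basicOpen_mul]
    exact inf_le_left.trans ((le_iSup (fun i => Proj.basicOpen 𝒜 (GradedRing.proj 𝒜 i g₀)) l).trans hgV)

/-- The comparison is bijective on `D₊(f)` if `v` is bijective up to powers of `f`. -/
theorem bijective_comap_basicOpen (n : ℤ) {f : A} {d : ℕ} (hd : 0 < d) (hf : f ∈ 𝒜 d)
    (ha : ∀ (i : ℕ) (m : M), m ∈ ℳ i → v m = 0 → ∃ K : ℕ, f ^ K • m = 0)
    (hb : ∀ (i : ℕ) (y : N), y ∈ 𝒩 i → ∃ (K : ℕ) (m : M), m ∈ ℳ (K * d + i) ∧ v m = ψ f ^ K • y) :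
    Function.Bijective ((comap ψ hψ v hv n).app (Proj.basicOpen 𝒜 f)) := by
  have hval : ∀ (s : Γ(tilde 𝒜 ℳ n, Proj.basicOpen 𝒜 f)) (y : ProjectiveSpectrum ℬ)
      (hy : y ∈ Proj.basicOpen ℬ (ψ f)),
      val (n := n) (ℳ := 𝒩) ((comap ψ hψ v hv n).app (Proj.basicOpen 𝒜 f) s) y hy =
        locModMap ψ hψ v y (val (n := n) (ℳ := ℳ) s _ hy) := fun s y hy => rfl
  refine ⟨(injective_iff_map_eq_zero _).2 fun s hs => ?_, fun t => ?_⟩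
  · obtain ⟨i, k, m, hm, hi, hsm⟩ := exists_eq_frac_of_pos 𝒜 ℳ hd hf (s : Sec (ℳ := ℳ) n _)
    have hψf : ψ f ∈ ℬ d := ψ.map_mem hf
    obtain ⟨K, hK⟩ := exists_pow_smul_eq_zero_of_mk ℬ 𝒩 hd hψf (hv i m hm) fun y hy => by
      refine ⟨ψ (f ^ k), by rw [map_pow]; exact GrTw11.pow_notMem ℬ hy k, ?_⟩
      have h2 := hval s y hy
      rw [hsm (ProjectiveSpectrum.comap ψ hψ y) hy, locModMap_mkx, hs] at h2
      exact h2.symm
    have h0 : v (f ^ K • m) = 0 := by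
      rw [LinearMap.map_smulₛₗ, map_pow]
      exact hK
    have hfm : f ^ K • m ∈ ℳ (K * d + i) := smul_mem_graded 𝒜 (GrTw11.pow_mem_smul 𝒜 hf K) hm
    obtain ⟨L, hL⟩ := ha _ _ hfm h0
    refine sec_ext (n := n) (ℳ := ℳ) fun x hx => ?_
    rw [hsm x hx, mkx_eq_zero_iff 𝒜 _ |>.2 ⟨f ^ L * f ^ K, ?_, by rw [mul_smul, hL]⟩]
    · rfl
    · exact fun h => (x.isPrime.mem_or_mem h).elim (GrTw11.pow_notMem 𝒜 hx L) (GrTw11.pow_notMem 𝒜 hx K)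
  · obtain ⟨i, k, y, hy, hi, hty⟩ := exists_eq_frac_of_pos ℬ 𝒩 hd (ψ.map_mem hf) (t : Sec (ℳ := 𝒩) n _)
    obtain ⟨K, m, hm, hvm⟩ := hb i y hy
    refine ⟨frac 𝒜 (n := n) (Proj.basicOpen 𝒜 f) hm (GrTw11.pow_mem_smul 𝒜 hf (K + k))
      (Or.inl (by push_cast; rw [hi]; ring)) (fun x hx => GrTw11.pow_notMem 𝒜 hx _), ?_⟩
    refine sec_ext (n := n) (ℳ := 𝒩) fun z hz => ?_
    refine (hval _ z hz).trans ?_
    refine Eq.trans ?_ (hty z hz).symm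
    show locModMap ψ hψ v z (mkx 𝒜 _ m (f ^ (K + k)) _) = _
    rw [locModMap_mkx, mkx_eq_iff]
    refine ⟨1, one_nin z, ?_⟩
    rw [hvm, map_pow, smul_smul, one_smul, one_mul]
    exact (smul_smul _ _ _).trans (congrArg (· • y) ((mul_comm _ _).trans (pow_add (ψ f) K k).symm))

omit [SetLike.GradedSMul 𝒜 ℳ] [SetLike.GradedSMul ℬ 𝒩] in
include hv in
theorem decompose_map (m' : M) (i : ℕ) :
    (DirectSum.decompose 𝒩 (v m') i : N) = v (DirectSum.decompose ℳ m' i) := by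
  classical
  induction m' using DirectSum.Decomposition.inductionOn ℳ with
  | zero => simp
  | @homogeneous j a =>
    by_cases hji : j = i
    · subst hji
      rw [DirectSum.decompose_of_mem_same 𝒩 (hv j a a.2), DirectSum.decompose_of_mem_same ℳ a.2]
    · rw [DirectSum.decompose_of_mem_ne 𝒩 (hv j a a.2) hji, DirectSum.decompose_of_mem_ne ℳ a.2 hji, map_zero]
  | add a b ha hb => rw [map_add, DirectSum.decompose_add, DirectSum.decompose_add, DirectSum.add_apply,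
      DirectSum.add_apply, AddMemClass.coe_add, AddMemClass.coe_add, map_add, ha, hb]

/-- A degree preserving bijection gives an isomorphism. -/
theorem isIso_comap_of_bijective (hbij : Function.Bijective v) (n : ℤ) : IsIso (comap ψ hψ v hv n) := by
  classical
  refine Scheme.Modules.Hom.isIso_iff_isIso_app.2 fun V => (ConcreteCategory.isIso_iff_bijective _).2
    (bijective_app_of_small _ ⊤ (fun V _ x hx => ?_) le_top)
  obtain ⟨g, hg, hxg, hgV⟩ : ∃ g : A, (∃ d : ℕ, 0 < d ∧ g ∈ 𝒜 d) ∧ x ∈ Proj.basicOpen 𝒜 g ∧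
      Proj.basicOpen 𝒜 g ≤ V := exists_basicOpen_pos_nhd 𝒜 hx
  obtain ⟨d, hd, hgd⟩ := hg
  refine ⟨_, hxg, hgV, bijective_comap_basicOpen ψ hψ v hv n hd hgd (fun i m _ h => ?_) fun i y hy => ?_⟩
  · exact ⟨0, by rw [pow_zero, one_smul]; exact hbij.1 (h.trans (map_zero v).symm)⟩
  · obtain ⟨m, rfl⟩ := hbij.2 y
    refine ⟨0, DirectSum.decompose ℳ m i, by rw [Nat.zero_mul, Nat.zero_add]; exact SetLike.coe_mem _, ?_⟩
    rw [pow_zero, one_smul]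
    rw [← decompose_map ψ v hv, DirectSum.decompose_of_mem_same 𝒩 hy]

/-- For a localization at an element of degree zero, the comparison is bijective over the image. -/
theorem bijective_comap_app_of_isResLoc {c : 𝒜 0} (h : IsResLoc ψ c)
    (ha : ∀ m : M, v m = 0 → ∃ K : ℕ, (c : A) ^ K • m = 0)
    (hb : ∀ (i : ℕ) (y : N), y ∈ 𝒩 i → ∃ (K : ℕ) (m : M), m ∈ ℳ i ∧ v m = ψ (c : A) ^ K • y)
    (n : ℤ) {V : (Proj 𝒜).Opens} (hV : (V : Set (Proj 𝒜)) ⊆ Set.range (Proj.map ψ hψ)) :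
    Function.Bijective ((comap ψ hψ v hv n).app V) := by
  refine bijective_app_of_small _ V (fun W hW x hx => ?_) le_rfl
  obtain ⟨g, ⟨d, hd, hg⟩, hxg, hgW⟩ : ∃ g : A, (∃ d : ℕ, 0 < d ∧ g ∈ 𝒜 d) ∧ x ∈ Proj.basicOpen 𝒜 g ∧
      Proj.basicOpen 𝒜 g ≤ W := exists_basicOpen_pos_nhd 𝒜 hx
  obtain ⟨y, rfl⟩ := hV (hW hx)
  have hcy : (c : A) ∉ (ProjectiveSpectrum.comap ψ hψ y).asHomogeneousIdeal := fun hm =>
    GrTw11.psi_notMem h y 1 (by rw [pow_one]; exact hm)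
  have hgc : g * (c : A) ∈ 𝒜 d := by simpa using SetLike.mul_mem_graded hg c.2
  refine ⟨Proj.basicOpen 𝒜 (g * (c : A)), fun hm => ((ProjectiveSpectrum.comap ψ hψ y).isPrime.mem_or_mem hm).elim hxg hcy,
    (Proj.basicOpen_mono 𝒜 _ _ (dvd_mul_right _ _)).trans hgW,
    bijective_comap_basicOpen ψ hψ v hv n hd hgc (fun i m _ hm => ?_) fun i z hz => ?_⟩
  · obtain ⟨K, hK⟩ := ha m hm
    exact ⟨K, by rw [mul_pow, mul_smul, hK, smul_zero]⟩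
  · obtain ⟨K, m, hm, hvm⟩ := hb i z hz
    refine ⟨K, g ^ K • m, smul_mem_graded 𝒜 (GrTw11.pow_mem_smul 𝒜 hg K) hm, ?_⟩
    rw [LinearMap.map_smulₛₗ, map_pow, hvm, smul_smul, map_mul, mul_pow]
    rfl

end Groth.Agent.GrMod11
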