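import Groth.Agent.Lib.GrMod11.QCoh
import Groth.Agent.Lib.GrMod11.Comap
import Groth.Agent.Lib.ModM1.Coh
import Groth.Agent.Lib.EGA2.Graded

/-!
Finiteness of `M~` on basic opens and on `Proj`.
-/

set_option autoImplicit false
set_option linter.unusedSectionVars false

open CategoryTheory CategoryTheory.Limits AlgebraicGeometry TopologicalSpace Opposite HomogeneousLocalization

universe u

namespace Groth.Agent.GrMod11

open _root_.GrMod Groth.Agent.GrTw11

variable {A σ : Type u} [CommRing A] [SetLike σ A] [AddSubgroupClass σ A] (𝒜 : ℕ → σ) [GradedRing 𝒜]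
  {M τ : Type u} [AddCommGroup M] [Module A M] [SetLike τ M] [AddSubgroupClass τ M] (ℳ : ℕ → τ)
  [SetLike.GradedSMul 𝒜 ℳ] [DirectSum.Decomposition ℳ]

theorem decompose_hom_smul {i : ℕ} {a : A} (ha : a ∈ 𝒜 i) (m : M) (n : ℕ) :
    (DirectSum.decompose ℳ (a • m) n : M) = if i ≤ n then a • (DirectSum.decompose ℳ m (n - i) : M) else 0 := by
  induction m using DirectSum.Decomposition.inductionOn ℳ with
  | zero => simp
  | @homogeneous j x =>
    have hax : a • (x : M) ∈ ℳ (i + j) := smul_mem_graded 𝒜 ha x.2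
    by_cases hn : i + j = n
    · subst hn
      rw [DirectSum.decompose_of_mem_same ℳ hax, if_pos (by omega), Nat.add_sub_cancel_left,
        DirectSum.decompose_of_mem_same ℳ x.2]
    · rw [DirectSum.decompose_of_mem_ne ℳ hax hn]
      split
      · rw [DirectSum.decompose_of_mem_ne ℳ x.2 (by omega), smul_zero]
      · rfl
  | add x y hx hy =>
    simp only [smul_add, DirectSum.decompose_add, DirectSum.add_apply, AddMemClass.coe_add, hx, hy]
    split <;> simp

/-- The sections over `D₊(g)` are finite, given finite generation over elements of degrees divisible by `d`. -/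
theorem finite_sections_basicOpen {g : A} {d : ℕ} (hd : 0 < d) (hg : g ∈ 𝒜 d) (C : Subring A)
    (hC : ∀ c ∈ C, ∀ l, ¬ d ∣ l → (DirectSum.decompose 𝒜 c l : A) = 0) (T : Finset M)
    (hT : ∀ t ∈ T, ∃ i, t ∈ ℳ i) (n : ℕ)
    (hspan : ∀ k, n ≤ k → ∀ m ∈ ℳ (k * d), m ∈ Submodule.span C (T : Set M)) :
    Module.Finite Γ(Proj 𝒜, Proj.basicOpen 𝒜 g) Γ(_root_.GrMod.tilde 𝒜 ℳ 0, Proj.basicOpen 𝒜 g) := by
  classical
  choose! e he using hT
  let φ : ℕ → M → Γ(_root_.GrMod.tilde 𝒜 ℳ 0, Proj.basicOpen 𝒜 g) := fun k x =>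
    (frac 𝒜 (n := 0) _ (SetLike.coe_mem (DirectSum.decompose ℳ x (k * d))) (GrTw11.pow_mem_smul 𝒜 hg k)
      (Or.inl (by simp)) (fun y hy => GrTw11.pow_notMem 𝒜 hy k) : Sec (ℳ := ℳ) 0 _)
  have hval : ∀ k x (y : ProjectiveSpectrum 𝒜) (hy : y ∈ Proj.basicOpen 𝒜 g),
      val (n := 0) (ℳ := ℳ) (φ k x) y hy =
        mkx 𝒜 y (DirectSum.decompose ℳ x (k * d) : M) (g ^ k) (GrTw11.pow_notMem 𝒜 hy k) := fun _ _ _ _ => rfl
  have φ_add : ∀ k x y, φ k (x + y) = φ k x + φ k y := fun k x y => sec_ext (n := 0) (ℳ := ℳ) fun z hz => by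
    refine Eq.trans ?_ (show val (n := 0) (ℳ := ℳ) (φ k x) z hz + val (n := 0) (ℳ := ℳ) (φ k y) z hz =
      val (n := 0) (ℳ := ℳ) (φ k x + φ k y) z hz from rfl)
    rw [hval, hval, hval, DirectSum.decompose_add, DirectSum.add_apply, AddMemClass.coe_add]
    refine Eq.trans ?_ LocalizedModule.mk_add_mk.symm
    refine (mkx_eq_iff 𝒜 _ _).2 ⟨1, one_nin z, ?_⟩
    simp only [one_smul, Submonoid.smul_def, smul_add, smul_smul, one_mul]
  have φ_zero : ∀ k, φ k 0 = 0 := fun k => sec_ext (n := 0) (ℳ := ℳ) fun z hz => by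
    rw [hval, DirectSum.decompose_zero, DirectSum.zero_apply, ZeroMemClass.coe_zero, mkx_zero]
    rfl
  let G := T.image fun t => φ (e t / d) t
  let N := Submodule.span Γ(Proj 𝒜, Proj.basicOpen 𝒜 g) (G : Set Γ(_root_.GrMod.tilde 𝒜 ℳ 0, Proj.basicOpen 𝒜 g))
  have hP : ∀ x ∈ Submodule.span C (T : Set M), ∀ k, φ k x ∈ N := fun x hx => by
    induction hx using Submodule.span_induction with
    | mem t ht =>
      intro k
      by_cases hk : e t = k * d
      · refine Submodule.subset_span (Finset.mem_image.2 ⟨t, ht, ?_⟩)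
        rw [hk, Nat.mul_div_cancel _ hd]
      · convert zero_mem N
        refine sec_ext (n := 0) (ℳ := ℳ) fun z hz => ?_
        rw [hval, DirectSum.decompose_of_mem_ne ℳ (he t ht) hk, mkx_zero]
        rfl
    | zero => intro k; rw [φ_zero]; exact zero_mem _
    | add a b _ _ ha hb => intro k; rw [φ_add]; exact add_mem (ha k) (hb k)
    | smul c a _ ha =>
      intro k
      show φ k ((c : A) • a) ∈ N
      rw [← DirectSum.sum_support_decompose 𝒜 (c : A), Finset.sum_smul]
      refine Finset.sum_induction _ (fun y => φ k y ∈ N) (fun p q hp hq => by rw [φ_add]; exact add_mem hp hq)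
        (by rw [φ_zero]; exact zero_mem _) fun l _ => ?_
      by_cases hl : d ∣ l
      · obtain ⟨j, rfl⟩ := hl
        have hb : (DirectSum.decompose 𝒜 (c : A) (d * j) : A) ∈ 𝒜 (j * d) := mul_comm d j ▸ SetLike.coe_mem _
        by_cases hjk : j ≤ k
        · obtain ⟨i, rfl⟩ := Nat.exists_eq_add_of_le hjk
          convert N.smul_mem (Proj.awayToSection 𝒜 g (Away.mk 𝒜 hg j _ hb)) (ha i) using 1
          refine sec_ext (n := 0) (ℳ := ℳ) fun z hz => ?_
          refine Eq.trans ?_ (val_smul _ _ z hz).symm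
          rw [hval, hval, valO_awayToSection 𝒜 hg hb z hz (GrTw11.pow_notMem 𝒜 hz j),
            mk_smul_mkx 𝒜 _ _ _ _ _ _ (fun h => (z.isPrime.mem_or_mem h).elim (GrTw11.pow_notMem 𝒜 hz j)
              (GrTw11.pow_notMem 𝒜 hz i)), decompose_hom_smul 𝒜 ℳ hb,
            if_pos (by nlinarith), show (j + i) * d - j * d = i * d by rw [add_mul, Nat.add_sub_cancel_left]]
          simp only [pow_add]
        · convert zero_mem N
          refine sec_ext (n := 0) (ℳ := ℳ) fun z hz => ?_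
          rw [hval, decompose_hom_smul 𝒜 ℳ hb, if_neg (by nlinarith), mkx_zero]
          rfl
      · rw [hC c c.2 l hl, zero_smul, φ_zero]
        exact zero_mem _
  refine ⟨⟨G, eq_top_iff.2 fun s _ => ?_⟩⟩
  obtain ⟨i, k, m, hm, hi, hs⟩ := exists_eq_frac_of_pos 𝒜 ℳ hd hg (s : Sec (ℳ := ℳ) 0 _)
  have hik : i = k * d := by omega
  subst hik
  have hm' : g ^ n • m ∈ ℳ ((n + k) * d) := by
    rw [add_mul]; exact smul_mem_graded 𝒜 (GrTw11.pow_mem_smul 𝒜 hg n) hm
  convert hP _ (hspan (n + k) (Nat.le_add_right _ _) _ hm') (n + k) using 1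
  refine sec_ext (n := 0) (ℳ := ℳ) fun z hz => ?_
  rw [hs z hz, hval, DirectSum.decompose_of_mem_same ℳ hm', mkx_eq_iff]
  exact ⟨1, one_nin z, by simp only [one_smul, smul_smul]; congr 1; ring⟩

/-- Finite type is checked on an affine cover. -/
theorem isFT_of_cover {X : Scheme.{u}} {F : X.Modules} (hF : Coh.IsQCoh F) {ι : Type u} (U : ι → X.Opens)
    (hU : ∀ i, IsAffineOpen (U i)) (hcov : ∀ x, ∃ i, x ∈ U i) (h : ∀ i, Module.Finite Γ(X, U i) Γ(F, U i)) :
    CohB1.IsFT F := by
  haveI := h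
  refine M1.isFT_of_openImmersion_cover (fun i => (hU i).fromSpec) (fun x => ?_) fun i =>
    (M1.isFT_iff_finite_spec _ (M1.isQCoh_fromSpec hF (hU i))).mpr
      (Module.Finite.equiv (M1.affineSecEquiv F (hU i)).symm)
  obtain ⟨i, hi⟩ := hcov x
  exact ⟨i, by rw [IsAffineOpen.range_fromSpec]; exact hi⟩

theorem isFT_tilde_of_degOne {n : ℕ} (hcov : ∀ x : Proj 𝒜, ∃ g : 𝒜 1, x ∈ Proj.basicOpen 𝒜 (g : A))
    (hTF : (Submodule.span A (⋃ k ∈ Set.Ici n, (ℳ k : Set M))).FG) :
    CohB1.IsFT (_root_.GrMod.tilde 𝒜 ℳ 0) := by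
  classical
  obtain ⟨T, hT, hspan⟩ := (Submodule.fg_span_iff_fg_span_finset_subset _).1 hTF
  refine isFT_of_cover (isQCoh_tilde 𝒜 ℳ 0) (fun g : 𝒜 1 => Proj.basicOpen 𝒜 (g : A))
    (fun g => Proj.isAffineOpen_basicOpen 𝒜 _ g.2 Nat.one_pos) hcov fun g => ?_
  refine finite_sections_basicOpen 𝒜 ℳ Nat.one_pos g.2 ⊤ (fun c _ l hl => absurd (one_dvd l) hl) T
    (fun t ht => ?_) n fun k hk m hm => ?_
  · obtain ⟨i, -, hi⟩ := Set.mem_iUnion₂.1 (hT ht)
    exact ⟨i, hi⟩
  · have hm' : m ∈ Submodule.span A (T : Set M) := by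
      rw [← hspan]
      exact Submodule.subset_span (Set.mem_iUnion₂.2 ⟨k * 1, by simpa using hk, hm⟩)
    clear hm
    induction hm' using Submodule.span_induction with
    | mem t ht => exact Submodule.subset_span ht
    | zero => exact zero_mem _
    | add a b _ _ ha hb => exact add_mem ha hb
    | smul c a _ ha => exact Submodule.smul_mem _ (⟨c, Subring.mem_top c⟩ : (⊤ : Subring A)) ha

section Alg

variable {R B N : Type u} [CommRing R] [CommRing B] [Algebra R B] (ℬ : ℕ → Submodule R B) [GradedAlgebra ℬ]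
  [AddCommGroup N] [Module R N] [Module B N] [IsScalarTower R B N] (𝒩 : ℕ → Submodule R N)
  [DirectSum.Decomposition 𝒩] [SetLike.GradedSMul ℬ 𝒩]

/-- The elements with components only in the degrees divisible by `d`. -/
def dvdSubring (d : ℕ) : Subring B where
  carrier := {c | ∀ l, ¬ d ∣ l → (DirectSum.decompose ℬ c l : B) = 0}
  zero_mem' l _ := by simp
  one_mem' l hl := DirectSum.decompose_of_mem_ne ℬ (SetLike.one_mem_graded ℬ) fun h => hl (h ▸ dvd_zero d)
  add_mem' {a b} ha hb l hl := by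
    rw [DirectSum.decompose_add, DirectSum.add_apply, AddMemClass.coe_add, ha l hl, hb l hl, add_zero]
  neg_mem' {a} ha l hl := by
    rw [DirectSum.decompose_neg]
    show -(DirectSum.decompose ℬ a l : B) = 0
    rw [ha l hl, neg_zero]
  mul_mem' {a b} ha hb l hl := by
    classical
    rw [← DirectSum.sum_support_decompose ℬ a, Finset.sum_mul, DirectSum.decompose_sum, DirectSum.sum_apply,
      AddSubmonoidClass.coe_finsetSum]
    refine Finset.sum_eq_zero fun i _ => ?_
    by_cases hi : d ∣ i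
    · by_cases hil : i ≤ l
      · rw [DirectSum.coe_decompose_mul_of_left_mem_of_le ℬ (SetLike.coe_mem _) hil,
          hb (l - i) (fun h => hl (by simpa [Nat.add_sub_cancel' hil] using dvd_add hi h)), mul_zero]
      · exact DirectSum.coe_decompose_mul_of_left_mem_of_not_le ℬ (SetLike.coe_mem _) hil
    · rw [ha i hi, zero_mul, DirectSum.decompose_zero]
      rfl

theorem isFT_tilde_of_fg (hfg : (HomogeneousIdeal.irrelevant ℬ).toIdeal.FG) {n : ℕ}
    (hTF : (Submodule.span B (⋃ k ∈ Set.Ici n, (𝒩 k : Set N))).FG) :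
    CohB1.IsFT (_root_.GrMod.tilde ℬ 𝒩 0) := by
  classical
  haveI : Algebra.FiniteType (ℬ 0) B := (EGA2.irrelevant_fg_iff ℬ).1 hfg
  obtain ⟨E, hE, hEtop, -⟩ := EGA2.exists_homogeneous_gens ℬ
  obtain ⟨T, hT, hspan⟩ := (Submodule.fg_span_iff_fg_span_finset_subset _).1 hTF
  refine isFT_of_cover (isQCoh_tilde ℬ 𝒩 0) (fun g : {g : B // ∃ d, 0 < d ∧ g ∈ ℬ d} => Proj.basicOpen ℬ g.1)
    (fun g => Proj.isAffineOpen_basicOpen ℬ _ g.2.choose_spec.2 g.2.choose_spec.1) (fun x => ?_) fun g => ?_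
  · obtain ⟨a, ⟨d, hd, ha⟩, hxa, -⟩ := exists_basicOpen_pos_nhd ℬ (V := ⊤) (x := x) trivial
    exact ⟨⟨a, d, hd, ha⟩, hxa⟩
  obtain ⟨g, d, hd, hg⟩ := g
  let C : Subalgebra (ℬ 0) B := Algebra.adjoin (ℬ 0) ((fun i => i ^ d) '' (E : Set B))
  have hCd : ∀ c ∈ C, c ∈ dvdSubring ℬ d := fun c hc => by
    induction hc using Algebra.adjoin_induction with
    | mem c hc =>
      obtain ⟨i, hi, rfl⟩ := hc
      obtain ⟨e, -, he⟩ := hE i hi
      intro l hl
      exact DirectSum.decompose_of_mem_ne ℬ (SetLike.pow_mem_graded d he) fun h => hl ⟨e, h.symm⟩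
    | algebraMap r =>
      intro l hl
      exact DirectSum.decompose_of_mem_ne ℬ r.2 fun h => hl (h ▸ dvd_zero d)
    | add a b _ _ ha hb => exact add_mem ha hb
    | mul a b _ _ ha hb => exact mul_mem ha hb
  have : Algebra.IsIntegral C B := ⟨fun x => by
    have hx : x ∈ Algebra.adjoin (ℬ 0) (E : Set B) := by rw [hEtop]; trivial
    induction hx using Algebra.adjoin_induction with
    | mem i hi =>
      refine IsIntegral.of_pow (n := d) hd ?_
      exact isIntegral_algebraMap (R := C) (x := ⟨i ^ d, Algebra.subset_adjoin ⟨i, hi, rfl⟩⟩)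
    | algebraMap r => exact isIntegral_algebraMap (R := C) (x := ⟨_, C.algebraMap_mem r⟩)
    | add x y _ _ hx hy => exact hx.add hy
    | mul x y _ _ hx hy => exact hx.mul hy⟩
  have : Algebra.FiniteType C B := Algebra.FiniteType.of_restrictScalars_finiteType (ℬ 0) C B
  have : Module.Finite C B := (Algebra.IsIntegral.finite (R := C) (A := B) :)
  obtain ⟨P, hP⟩ := Module.Finite.fg_top (R := C) (M := B)
  let P' : Finset B := P.biUnion fun p => (DirectSum.decompose ℬ p).support.image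
    fun i => (DirectSum.decompose ℬ p i : B)
  have hP' : Submodule.span C (P' : Set B) = ⊤ := top_le_iff.1 (hP.ge.trans (Submodule.span_le.2 fun p hp => by
    rw [← DirectSum.sum_support_decompose ℬ p]
    exact sum_mem fun i hi => Submodule.subset_span
      (Finset.mem_biUnion.2 ⟨p, hp, Finset.mem_image.2 ⟨i, hi, rfl⟩⟩)))
  refine finite_sections_basicOpen ℬ 𝒩 hd hg C.toSubring (fun c hc => hCd c hc)
    ((P' ×ˢ T).image fun q => q.1 • q.2) (fun z hz => ?_) n fun k hk m hm => ?_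
  · obtain ⟨⟨p, t⟩, hpt, rfl⟩ := Finset.mem_image.1 hz
    obtain ⟨hp, ht⟩ := Finset.mem_product.1 hpt
    obtain ⟨q, -, hq⟩ := Finset.mem_biUnion.1 hp
    obtain ⟨i, -, rfl⟩ := Finset.mem_image.1 hq
    obtain ⟨j, -, hj⟩ := Set.mem_iUnion₂.1 (hT ht)
    exact ⟨i + j, smul_mem_graded ℬ (SetLike.coe_mem _) hj⟩
  · have hm' : m ∈ Submodule.span B (T : Set N) := by
      rw [← hspan]
      exact Submodule.subset_span (Set.mem_iUnion₂.2 ⟨k * d, le_trans hk (Nat.le_mul_of_pos_right k hd), hm⟩)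
    have hb : ∀ (b : B), ∀ t ∈ T,
        b • t ∈ Submodule.span C.toSubring (((P' ×ˢ T).image fun q => q.1 • q.2 : Finset N) : Set N) := fun b t ht => by
      have hb : b ∈ Submodule.span C (P' : Set B) := hP' ▸ Submodule.mem_top
      induction hb using Submodule.span_induction with
      | mem p hp => exact Submodule.subset_span (Finset.mem_image.2 ⟨(p, t), Finset.mem_product.2 ⟨hp, ht⟩, rfl⟩)
      | zero => rw [zero_smul]; exact zero_mem _
      | add a b _ _ ha hb => rw [add_smul]; exact add_mem ha hb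
      | smul c a _ ha =>
        rw [show (c • a) • t = (⟨c.1, c.2⟩ : C.toSubring) • (a • t) from mul_smul (c : B) a t]
        exact Submodule.smul_mem _ _ ha
    suffices ∀ b : B, b • m ∈ Submodule.span C.toSubring (((P' ×ˢ T).image fun q => q.1 • q.2 : Finset N) : Set N) by
      simpa using this 1
    clear hm
    induction hm' using Submodule.span_induction with
    | mem t ht => exact fun b => hb b t ht
    | zero => intro b; rw [smul_zero]; exact zero_mem _
    | add a c _ _ ha hc => intro b; rw [smul_add]; exact add_mem (ha b) (hc b)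
    | smul c a _ ha => intro b; rw [smul_smul]; exact ha _

end Alg

end Groth.Agent.GrMod11
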