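import Groth.Agent.Lib.GrMod11.Comap

/-!
The maps of the modules on `Proj` induced by maps of graded modules.
-/

set_option autoImplicit false

open CategoryTheory CategoryTheory.Limits AlgebraicGeometry TopologicalSpace Opposite
open scoped HomogeneousIdeal

universe u

namespace Groth.Agent.GrMod11

open _root_.GrMod

variable {A σ : Type u} [CommRing A] [SetLike σ A] [AddSubgroupClass σ A] (𝒜 : ℕ → σ) [GradedRing 𝒜]
  {M τ : Type u} [AddCommGroup M] [Module A M] [SetLike τ M] [AddSubgroupClass τ M] {ℳ : ℕ → τ}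
  [SetLike.GradedSMul 𝒜 ℳ] [DirectSum.Decomposition ℳ]
  {N τ' : Type u} [AddCommGroup N] [Module A N] [SetLike τ' N] [AddSubgroupClass τ' N] {𝒩 : ℕ → τ'}
  [SetLike.GradedSMul 𝒜 𝒩] [DirectSum.Decomposition 𝒩]
  (u : M →ₗ[A] N) (hu : ∀ (i : ℕ) (m : M), m ∈ ℳ i → u m ∈ 𝒩 i) (n : ℤ)

theorem val_map {U : (Proj 𝒜).Opens} (s : Γ(tilde 𝒜 ℳ n, U)) (x : ProjectiveSpectrum 𝒜) (hx : x ∈ U) :
    val (n := n) (ℳ := 𝒩) ((map 𝒜 u hu n).app U s) x hx = locMap u x (val (n := n) (ℳ := ℳ) s x hx) := rfl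

omit [AddSubgroupClass τ M] [SetLike.GradedSMul 𝒜 ℳ] [DirectSum.Decomposition ℳ] [AddSubgroupClass τ' N]
  [SetLike.GradedSMul 𝒜 𝒩] [DirectSum.Decomposition 𝒩] in
theorem locMap_mkx (x : ProjectiveSpectrum 𝒜) (m : M) (s : A) (hs : s ∉ x.asHomogeneousIdeal) :
    locMap u x (mkx 𝒜 x m s hs) = mkx 𝒜 x (u m) s hs := GrMod.locMap_mk u x m _

include hu in
/-- Injectivity in large degrees gives injectivity on fractions. -/
theorem eq_zero_of_locMap_eq_zero (n₀ : ℕ) (hinj : ∀ k, n₀ ≤ k → ∀ m ∈ ℳ k, u m = 0 → m = 0)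
    {x : ProjectiveSpectrum 𝒜} {q : LocMod 𝒜 (M := M) x} (hq : q ∈ tildeAt 𝒜 ℳ n x) (h : locMap u x q = 0) :
    q = 0 := by
  rcases exists_frac 𝒜 ℳ hq with rfl | ⟨i, j, m, s, hs, hm, -, -, rfl⟩
  · rfl
  rw [locMap_mkx, mkx_eq_zero_iff] at h
  obtain ⟨w, hw, hwm⟩ := h
  obtain ⟨l, w', hl, hw', hwm'⟩ := exists_homogeneous_annihilator 𝒜 𝒩 (hu i m hm) hw hwm
  have hxc : x ∈ (⨆ g : {g : A // ∃ k : ℕ, 0 < k ∧ g ∈ 𝒜 k}, Proj.basicOpen 𝒜 g.1) := by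
    rw [RelProj11.iSup_basicOpen_pos 𝒜]; trivial
  obtain ⟨⟨g, e, he, hg⟩, hxg⟩ := TopologicalSpace.Opens.mem_iSup.1 hxc
  rw [mkx_eq_zero_iff]
  refine ⟨w' * g ^ n₀, fun hm' => (x.isPrime.mem_or_mem hm').elim hw' (GrTw11.pow_notMem 𝒜 hxg n₀), ?_⟩
  refine hinj _ ?_ _ (smul_mem_graded 𝒜 (SetLike.mul_mem_graded hl (GrTw11.pow_mem_smul 𝒜 hg n₀)) hm) ?_
  · calc n₀ = n₀ * 1 := (mul_one n₀).symm
      _ ≤ n₀ * e := Nat.mul_le_mul_left n₀ he
      _ ≤ l + n₀ * e + i := (Nat.le_add_left _ _).trans (Nat.le_add_right _ _)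
  · rw [map_smul, mul_comm, mul_smul, hwm', smul_zero]

/-- Injectivity in large degrees gives injectivity on sections. -/
theorem map_app_injective (n₀ : ℕ) (hinj : ∀ k, n₀ ≤ k → ∀ m ∈ ℳ k, u m = 0 → m = 0) (U : (Proj 𝒜).Opens) :
    Function.Injective ((map 𝒜 u hu n).app U) :=
  (injective_iff_map_eq_zero _).2 fun s hs => sec_ext (n := n) (ℳ := ℳ) fun x hx =>
    eq_zero_of_locMap_eq_zero 𝒜 u hu n n₀ hinj (val_mem (n := n) (ℳ := ℳ) s x hx)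
      ((val_map 𝒜 u hu n s x hx).symm.trans (congrArg (fun t => val (n := n) (ℳ := 𝒩) t x hx) hs))

/-- Surjectivity in large degrees gives surjectivity over basic opens. -/
theorem map_app_surjective_basicOpen (n₀ : ℕ) (hsurj : ∀ k, n₀ ≤ k → ∀ y ∈ 𝒩 k, ∃ m ∈ ℳ k, u m = y)
    {f : A} {d : ℕ} (hd : 0 < d) (hf : f ∈ 𝒜 d) :
    Function.Surjective ((map 𝒜 u hu n).app (Proj.basicOpen 𝒜 f)) := fun t => by
  obtain ⟨i, k, y, hy, hi, hty⟩ := exists_eq_frac_of_pos 𝒜 𝒩 hd hf (t : Sec (ℳ := 𝒩) n _)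
  obtain ⟨m, hm, hum⟩ := hsurj (n₀ * d + i) ((Nat.le_mul_of_pos_right n₀ hd).trans (Nat.le_add_right _ _))
    (f ^ n₀ • y) (smul_mem_graded 𝒜 (GrTw11.pow_mem_smul 𝒜 hf n₀) hy)
  refine ⟨frac 𝒜 (n := n) _ hm (GrTw11.pow_mem_smul 𝒜 hf (n₀ + k)) (Or.inl (by push_cast; rw [hi]; ring))
    (fun x hx => GrTw11.pow_notMem 𝒜 hx _), sec_ext (n := n) (ℳ := 𝒩) fun x hx => ?_⟩
  refine (val_map 𝒜 u hu n _ x hx).trans (Eq.trans ?_ (hty x hx).symm)
  show locMap u x (mkx 𝒜 x m (f ^ (n₀ + k)) _) = _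
  rw [locMap_mkx, hum, mkx_eq_iff]
  exact ⟨1, one_nin x, by simp only [one_smul, smul_smul]; congr 1; ring⟩

omit [SetLike.GradedSMul 𝒜 ℳ] [SetLike.GradedSMul 𝒜 𝒩] in
include hu in
theorem decompose_linearMap (m' : M) (i : ℕ) :
    (DirectSum.decompose 𝒩 (u m') i : N) = u (DirectSum.decompose ℳ m' i) := by
  classical
  induction m' using DirectSum.Decomposition.inductionOn ℳ with
  | zero => simp
  | @homogeneous j a =>
    by_cases hji : j = i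
    · subst hji
      rw [DirectSum.decompose_of_mem_same 𝒩 (hu j a a.2), DirectSum.decompose_of_mem_same ℳ a.2]
    · rw [DirectSum.decompose_of_mem_ne 𝒩 (hu j a a.2) hji, DirectSum.decompose_of_mem_ne ℳ a.2 hji, map_zero]
  | add a b ha hb => rw [map_add, DirectSum.decompose_add, DirectSum.decompose_add, DirectSum.add_apply,
      DirectSum.add_apply, AddMemClass.coe_add, AddMemClass.coe_add, map_add, ha, hb]

variable {L τ'' : Type u} [AddCommGroup L] [Module A L] [SetLike τ'' L] [AddSubgroupClass τ'' L] {ℒ : ℕ → τ''}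
  [SetLike.GradedSMul 𝒜 ℒ] [DirectSum.Decomposition ℒ]
  (v : N →ₗ[A] L) (hv : ∀ (i : ℕ) (m : N), m ∈ 𝒩 i → v m ∈ ℒ i)

theorem map_app_exact_basicOpen (hex : Function.Exact u v) {f : A} {d : ℕ} (hd : 0 < d) (hf : f ∈ 𝒜 d) :
    Function.Exact ((map 𝒜 u hu n).app (Proj.basicOpen 𝒜 f)) ((map 𝒜 v hv n).app (Proj.basicOpen 𝒜 f)) := by
  classical
  intro t
  constructor
  · intro ht
    obtain ⟨i, k, y, hy, hi, hty⟩ := exists_eq_frac_of_pos 𝒜 𝒩 hd hf (t : Sec (ℳ := 𝒩) n _)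
    obtain ⟨K, hK⟩ := exists_pow_smul_eq_zero_of_mk 𝒜 ℒ hd hf (hv i y hy) fun x hx => by
      refine ⟨f ^ k, GrTw11.pow_notMem 𝒜 hx k, ?_⟩
      rw [← locMap_mkx 𝒜 v x y (f ^ k) (GrTw11.pow_notMem 𝒜 hx k), ← hty x hx]
      exact (val_map 𝒜 v hv n t x hx).symm.trans (congrArg (fun s => val (n := n) (ℳ := ℒ) s x hx) ht)
    obtain ⟨m₀, hm₀⟩ := (hex (f ^ K • y)).1 (by rw [map_smul, hK])
    have hfy : f ^ K • y ∈ 𝒩 (K * d + i) := smul_mem_graded 𝒜 (GrTw11.pow_mem_smul 𝒜 hf K) hy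
    refine ⟨frac 𝒜 (n := n) (m := (DirectSum.decompose ℳ m₀ (K * d + i) : M)) _ (SetLike.coe_mem _)
      (GrTw11.pow_mem_smul 𝒜 hf (K + k))
      (Or.inl (by push_cast; rw [hi]; ring)) (fun x hx => GrTw11.pow_notMem 𝒜 hx _),
      sec_ext (n := n) (ℳ := 𝒩) fun x hx => ?_⟩
    refine (val_map 𝒜 u hu n _ x hx).trans (Eq.trans ?_ (hty x hx).symm)
    show locMap u x (mkx 𝒜 x (DirectSum.decompose ℳ m₀ (K * d + i) : M) (f ^ (K + k)) _) = _
    rw [locMap_mkx, ← decompose_linearMap u hu, hm₀, DirectSum.decompose_of_mem_same 𝒩 hfy, mkx_eq_iff]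
    exact ⟨1, one_nin x, by simp only [one_smul, smul_smul]; congr 1; ring⟩
  · rintro ⟨s, rfl⟩
    refine sec_ext (n := n) (ℳ := ℒ) fun x hx => ?_
    refine (val_map 𝒜 v hv n _ x hx).trans ?_
    rw [val_map]
    show _ = (0 : LocMod 𝒜 (M := L) x)
    generalize val (n := n) (ℳ := ℳ) s x hx = q
    induction q using LocalizedModule.induction_on with
    | h m s => rw [GrMod.locMap_mk, GrMod.locMap_mk, (hex (u m)).2 ⟨m, rfl⟩, LocalizedModule.zero_mk]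

end Groth.Agent.GrMod11
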