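import Groth.Prelude.Def_GrMod3
import Groth.Agent.Lib.GrTw11.Basic

/-!
The modules on `Proj` attached to graded modules: values, fractions, homogeneous annihilators.
-/

set_option autoImplicit false

open CategoryTheory CategoryTheory.Limits AlgebraicGeometry TopologicalSpace Opposite

universe u

namespace Groth.Agent.GrMod11

open _root_.GrMod

variable {A σ : Type u} [CommRing A] [SetLike σ A] [AddSubgroupClass σ A] (𝒜 : ℕ → σ) [GradedRing 𝒜]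
  {M τ : Type u} [AddCommGroup M] [Module A M] [SetLike τ M] [AddSubgroupClass τ M] (ℳ : ℕ → τ)

/-- The fraction `m / s` at a point. -/
noncomputable abbrev mkx (x : ProjectiveSpectrum 𝒜) (m : M) (s : A) (hs : s ∉ x.asHomogeneousIdeal) :
    LocMod 𝒜 (M := M) x :=
  LocalizedModule.mk m (⟨s, hs⟩ : x.asHomogeneousIdeal.toIdeal.primeCompl)

theorem mkx_eq_iff {x : ProjectiveSpectrum 𝒜} {m m' : M} {s t : A} (hs : s ∉ x.asHomogeneousIdeal)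
    (ht : t ∉ x.asHomogeneousIdeal) :
    mkx 𝒜 x m s hs = mkx 𝒜 x m' t ht ↔ ∃ w : A, w ∉ x.asHomogeneousIdeal ∧ w • t • m = w • s • m' := by
  rw [mkx, mkx, LocalizedModule.mk_eq]
  exact ⟨fun ⟨⟨w, hw⟩, h⟩ => ⟨w, hw, h⟩, fun ⟨w, hw, h⟩ => ⟨⟨w, hw⟩, h⟩⟩

theorem mkx_eq_zero_iff {x : ProjectiveSpectrum 𝒜} {m : M} {s : A} (hs : s ∉ x.asHomogeneousIdeal) :
    mkx 𝒜 x m s hs = 0 ↔ ∃ w : A, w ∉ x.asHomogeneousIdeal ∧ w • m = 0 := by
  rw [show (0 : LocMod 𝒜 (M := M) x) = mkx 𝒜 x 0 1 (one_nin x) from (LocalizedModule.zero_mk _).symm, mkx_eq_iff]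
  simp only [one_smul, smul_zero]

theorem mkx_zero {x : ProjectiveSpectrum 𝒜} {s : A} (hs : s ∉ x.asHomogeneousIdeal) :
    mkx 𝒜 x (0 : M) s hs = 0 := LocalizedModule.zero_mk _

theorem mk_smul_mkx {x : ProjectiveSpectrum 𝒜} (a t : A) (m : M) (s : A) (ht : t ∉ x.asHomogeneousIdeal)
    (hs : s ∉ x.asHomogeneousIdeal) (hts : t * s ∉ x.asHomogeneousIdeal) :
    (Localization.mk a (⟨t, ht⟩ : x.asHomogeneousIdeal.toIdeal.primeCompl) : GrTwist.Loc 𝒜 x) • mkx 𝒜 x m s hs =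
      mkx 𝒜 x (a • m) (t * s) hts :=
  LocalizedModule.mk_smul_mk a m _ _

/-- A homogeneous fraction of degree `n` lies in `tildeAt n`. -/
theorem mk_mem {n : ℤ} {x : ProjectiveSpectrum 𝒜} {i j : ℕ} {m : M} {s : A} (hm : m ∈ ℳ i) (hs : s ∈ 𝒜 j)
    (hsx : s ∉ x.asHomogeneousIdeal) (hd : (i : ℤ) = j + n ∨ m = 0) : mkx 𝒜 x m s hsx ∈ tildeAt 𝒜 ℳ n x := by
  rcases hd with hd | hd
  · exact Submodule.subset_span ⟨i, j, ⟨m, hm⟩, ⟨s, hs⟩, hsx, hd, rfl⟩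
  · subst hd
    rw [mkx_zero]
    exact zero_mem _

variable [SetLike.GradedSMul 𝒜 ℳ]

variable {ℳ} in
theorem smul_mem_graded {i j : ℕ} {a : A} {m : M} (ha : a ∈ 𝒜 i) (hm : m ∈ ℳ j) : a • m ∈ ℳ (i + j) :=
  SetLike.GradedSMul.smul_mem ha hm

/-- Every element of `tildeAt n` is one fraction. -/
theorem exists_frac {n : ℤ} {x : ProjectiveSpectrum 𝒜} {q : LocMod 𝒜 (M := M) x} (hq : q ∈ tildeAt 𝒜 ℳ n x) :
    q = 0 ∨ ∃ (i j : ℕ) (m : M) (s : A) (hs : s ∉ x.asHomogeneousIdeal),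
      m ∈ ℳ i ∧ s ∈ 𝒜 j ∧ (i : ℤ) = j + n ∧ q = mkx 𝒜 x m s hs := by
  induction hq using Submodule.span_induction with
  | mem q hq =>
    obtain ⟨i, j, m, s, hs, hij, rfl⟩ := hq
    exact Or.inr ⟨i, j, m, s, hs, m.2, s.2, hij, rfl⟩
  | zero => exact Or.inl rfl
  | add p q _ _ hp hq =>
    rcases hp with rfl | ⟨i, j, a, s, hs, ha, hsm, hij, rfl⟩
    · rwa [zero_add]
    rcases hq with rfl | ⟨i', j', b, t, ht, hb, htm, hij', rfl⟩
    · rw [add_zero]; exact Or.inr ⟨i, j, a, s, hs, ha, hsm, hij, rfl⟩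
    refine Or.inr ⟨j + i', j + j', t • a + s • b, s * t, fun h => (x.isPrime.mem_or_mem h).elim hs ht, ?_,
      SetLike.mul_mem_graded hsm htm, by push_cast; omega, LocalizedModule.mk_add_mk⟩
    have e : j' + i = j + i' := by omega
    exact add_mem (e ▸ smul_mem_graded 𝒜 htm ha) (smul_mem_graded 𝒜 hsm hb)
  | smul c q _ hq =>
    rcases hq with rfl | ⟨i, j, m, s, hs, hm, hsm, hij, rfl⟩
    · exact Or.inl (smul_zero _)
    obtain ⟨c, rfl⟩ := HomogeneousLocalization.mk_surjective c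
    refine Or.inr ⟨c.deg + i, c.deg + j, (c.num : A) • m, (c.den : A) * s,
      fun h => (x.isPrime.mem_or_mem h).elim c.den_mem hs, smul_mem_graded 𝒜 c.num.2 hm,
      SetLike.mul_mem_graded c.den.2 hsm, by push_cast; omega, ?_⟩
    rw [a0_smul_def, HomogeneousLocalization.val_mk]
    exact mk_smul_mkx 𝒜 _ _ _ _ _ _ _

section Decomp

variable [DirectSum.Decomposition ℳ]

/-- A homogeneous element killed outside a prime is killed by a homogeneous element outside it. -/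
theorem exists_homogeneous_annihilator {x : ProjectiveSpectrum 𝒜} {e : ℕ} {m : M}
    (hm : m ∈ ℳ e) {w : A} (hw : w ∉ x.asHomogeneousIdeal) (h : w • m = 0) :
    ∃ (l : ℕ) (w' : A), w' ∈ 𝒜 l ∧ w' ∉ x.asHomogeneousIdeal ∧ w' • m = 0 := by
  classical
  by_contra H
  push Not at H
  refine hw ?_
  rw [← DirectSum.sum_support_decompose 𝒜 w]
  refine sum_mem fun l _ => ?_
  by_contra hl
  refine H l _ (SetLike.coe_mem _) hl ?_
  have hz : DirectSum.decompose ℳ (w • m) = 0 := by rw [h, DirectSum.decompose_zero]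
  have hsum : w • m = ∑ k ∈ (DirectSum.decompose 𝒜 w).support, (DirectSum.decompose 𝒜 w k : A) • m := by
    rw [← Finset.sum_smul, DirectSum.sum_support_decompose]
  rw [hsum, DirectSum.decompose_sum] at hz
  have hz' := congrArg (fun q => (q (l + e) : M)) hz
  simp only [DirectSum.sum_apply, DirectSum.zero_apply, ZeroMemClass.coe_zero] at hz'
  rw [AddSubmonoidClass.coe_finsetSum, Finset.sum_eq_single l] at hz'
  · rwa [DirectSum.decompose_of_mem_same ℳ (smul_mem_graded 𝒜 (SetLike.coe_mem _) hm)] at hz'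
  · intro k _ hk
    exact DirectSum.decompose_of_mem_ne ℳ (smul_mem_graded 𝒜 (SetLike.coe_mem _) hm) (by omega)
  · intro hk
    rw [DFinsupp.notMem_support_iff.1 hk, ZeroMemClass.coe_zero, zero_smul, DirectSum.decompose_zero]
    rfl

end Decomp

section Sections

variable {𝒜 ℳ}

/-- Sections of `M(n)~` over `U`. -/
abbrev Sec (n : ℤ) (U : (Proj 𝒜).Opens) : Type u := ↥(sect 𝒜 ℳ n (op U))

/-- The value of a section at a point. -/
def val {n : ℤ} {U : (Proj 𝒜).Opens} (f : Sec (ℳ := ℳ) n U) (x : ProjectiveSpectrum 𝒜) (hx : x ∈ U) :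
    LocMod 𝒜 (M := M) x := (f.1 ⟨x, hx⟩ : LocMod 𝒜 (M := M) x)

@[ext]
theorem sec_ext {n : ℤ} {U : (Proj 𝒜).Opens} {f g : Sec (ℳ := ℳ) n U}
    (h : ∀ x hx, val f x hx = val g x hx) : f = g :=
  Subtype.ext (funext fun x => Subtype.ext (h x.1 x.2))

theorem val_mem {n : ℤ} {U : (Proj 𝒜).Opens} (f : Sec (ℳ := ℳ) n U) (x : ProjectiveSpectrum 𝒜) (hx : x ∈ U) :
    val f x hx ∈ tildeAt 𝒜 ℳ n x := (f.1 ⟨x, hx⟩).2

variable (𝒜) in
/-- The section `m / s`. -/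
noncomputable def frac {n : ℤ} (U : (Proj 𝒜).Opens) {i j : ℕ} {m : M} {s : A} (hm : m ∈ ℳ i) (hs : s ∈ 𝒜 j)
    (hd : (i : ℤ) = j + n ∨ m = 0) (hU : U ≤ Proj.basicOpen 𝒜 s) : Sec (ℳ := ℳ) n U :=
  ⟨fun x => ⟨mkx 𝒜 x.1 m s (hU x.2), mk_mem 𝒜 ℳ hm hs _ hd⟩,
    fun x => ⟨U, x.2, 𝟙 _, i, j, ⟨m, hm⟩, ⟨s, hs⟩, fun y => hU y.2, hd, fun _ => rfl⟩⟩

theorem val_frac {n : ℤ} {U : (Proj 𝒜).Opens} {i j : ℕ} {m : M} {s : A} {hm : m ∈ ℳ i} {hs : s ∈ 𝒜 j}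
    {hd : (i : ℤ) = j + n ∨ m = 0} {hU : U ≤ Proj.basicOpen 𝒜 s} (x : ProjectiveSpectrum 𝒜) (hx : x ∈ U) :
    val (frac 𝒜 U hm hs hd hU) x hx = mkx 𝒜 x m s (hU hx) := rfl

theorem val_smul {n : ℤ} {U : (Proj 𝒜).Opens} (r : Γ(Proj 𝒜, U)) (f : Γ(tilde 𝒜 ℳ n, U))
    (x : ProjectiveSpectrum 𝒜) (hx : x ∈ U) :
    val (r • f : Γ(tilde 𝒜 ℳ n, U)) x hx = GrTw11.valO r x hx • val (n := n) (ℳ := ℳ) f x hx :=
  coe_smul_val n x (r.1 ⟨x, hx⟩) ((f : Sec (ℳ := ℳ) n U).1 ⟨x, hx⟩)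

theorem val_zero {n : ℤ} {U : (Proj 𝒜).Opens} (x : ProjectiveSpectrum 𝒜) (hx : x ∈ U) :
    val (n := n) (ℳ := ℳ) (0 : Γ(tilde 𝒜 ℳ n, U)) x hx = 0 := rfl

theorem val_mres {n : ℤ} {U V : (Proj 𝒜).Opens} (h : V ≤ U) (f : Γ(tilde 𝒜 ℳ n, U))
    (x : ProjectiveSpectrum 𝒜) (hx : x ∈ V) :
    val (n := n) (ℳ := ℳ) (Groth.Agent.M1.mres (tilde 𝒜 ℳ n) h f) x hx = val (n := n) (ℳ := ℳ) f x (h hx) := rfl

end Sections

end Groth.Agent.GrMod11
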