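import Groth.Agent.Lib.GrMod11.QCoh
import Mathlib.Algebra.Polynomial.Module.Basic
import Mathlib.Algebra.DirectSum.Ring

/-!
The graded module `Γ_*(F)` of a module on `Proj`, read on the opens `D₊(f_i)` of degree one generators `f_i`:
in degree `d` the families `s_i ∈ Γ(D₊(f_i), F)` with `s_j = (f_i / f_j) ^ d • s_i` on the overlaps.
-/

set_option autoImplicit false

open CategoryTheory CategoryTheory.Limits AlgebraicGeometry TopologicalSpace Opposite HomogeneousLocalization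

universe u

namespace Groth.Agent.GrMod11

open Groth.Agent.GrTw11 Groth.Agent.M1

variable {A σ : Type u} [CommRing A] [SetLike σ A] [AddSubgroupClass σ A] (𝒜 : ℕ → σ) [GradedRing 𝒜]

/-- The function `a / f ^ e` on `D₊(f)`, `f` of degree one. -/
noncomputable def fr {f : A} (hf : f ∈ 𝒜 1) (e : ℕ) (a : 𝒜 e) : Γ(Proj 𝒜, Proj.basicOpen 𝒜 f) :=
  Proj.awayToSection 𝒜 f (Away.mk 𝒜 hf e (a : A) (by rw [smul_eq_mul, mul_one]; exact a.2))

theorem valO_fr {f : A} (hf : f ∈ 𝒜 1) (e : ℕ) (a : 𝒜 e) (x : ProjectiveSpectrum 𝒜) (hx : x ∈ Proj.basicOpen 𝒜 f) :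
    valO (fr 𝒜 hf e a) x hx = Localization.mk (a : A) ⟨f ^ e, GrTw11.pow_notMem 𝒜 hx e⟩ :=
  valO_awayToSection 𝒜 hf _ x hx _

theorem valO_add {U : (Proj 𝒜).Opens} (r r' : Γ(Proj 𝒜, U)) (x : ProjectiveSpectrum 𝒜) (hx : x ∈ U) :
    valO (r + r') x hx = valO r x hx + valO r' x hx := HomogeneousLocalization.val_add _ _

theorem fr_add {f : A} (hf : f ∈ 𝒜 1) (e : ℕ) (a b : 𝒜 e) : fr 𝒜 hf e (a + b) = fr 𝒜 hf e a + fr 𝒜 hf e b :=
  sectionO_ext fun x hx => by
    rw [valO_add, valO_fr, valO_fr, valO_fr, Localization.add_mk_self]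
    rfl

theorem fr_one {f : A} (hf : f ∈ 𝒜 1) : fr 𝒜 hf 0 ⟨1, SetLike.one_mem_graded 𝒜⟩ = 1 :=
  sectionO_ext fun x hx => by
    rw [valO_fr, valO_one]
    refine Eq.trans ?_ Localization.mk_one
    congr 1
    exact Subtype.ext (pow_zero f)

theorem fr_mul {f : A} (hf : f ∈ 𝒜 1) {e e' : ℕ} (a : 𝒜 e) (b : 𝒜 e') :
    fr 𝒜 hf (e + e') ⟨(a : A) * b, SetLike.mul_mem_graded a.2 b.2⟩ = fr 𝒜 hf e a * fr 𝒜 hf e' b :=
  sectionO_ext fun x hx => by
    rw [valO_mul, valO_fr, valO_fr, valO_fr, Localization.mk_mul]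
    congr 1
    exact Subtype.ext (pow_add f e e')

/-- `a ↦ ∑ (a_e / f ^ e) X ^ e`. -/
noncomputable def chiHom {f : A} (hf : f ∈ 𝒜 1) : A →+* Polynomial Γ(Proj 𝒜, Proj.basicOpen 𝒜 f) :=
  (DirectSum.toSemiring (fun e => AddMonoidHom.mk' (fun a : 𝒜 e => Polynomial.monomial e (fr 𝒜 hf e a))
      fun a b => by rw [fr_add, map_add])
    (by
      show Polynomial.monomial 0 (fr 𝒜 hf 0 ⟨1, SetLike.one_mem_graded 𝒜⟩) = 1
      rw [fr_one, Polynomial.monomial_zero_one])
    (fun {i j} a b => by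
      show Polynomial.monomial (i + j) (fr 𝒜 hf (i + j) ⟨(a : A) * b, SetLike.mul_mem_graded a.2 b.2⟩) = _
      rw [fr_mul, ← Polynomial.monomial_mul_monomial]
      rfl)).comp (DirectSum.decomposeRingEquiv 𝒜).toRingHom

theorem chiHom_of_mem {f : A} (hf : f ∈ 𝒜 1) {e : ℕ} {a : A} (ha : a ∈ 𝒜 e) :
    chiHom 𝒜 hf a = Polynomial.monomial e (fr 𝒜 hf e ⟨a, ha⟩) := by
  unfold chiHom
  rw [RingHom.comp_apply, show (DirectSum.decomposeRingEquiv 𝒜).toRingHom a = DirectSum.decompose 𝒜 a from rfl,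
    DirectSum.decompose_of_mem 𝒜 ha]
  exact DirectSum.toSemiring_of _ _ _ _ _

variable (F : (Proj 𝒜).Modules) {ι : Type u} (f : ι → A) (hf : ∀ i, f i ∈ 𝒜 1)

include hf in
/-- Polynomials with coefficients the sections over `D₊(f i)`. -/
def Piece (i : ι) : Type u :=
  let _ := hf i
  PolynomialModule Γ(Proj 𝒜, Proj.basicOpen 𝒜 (f i)) Γ(F, Proj.basicOpen 𝒜 (f i))

noncomputable instance (i : ι) : AddCommGroup (Piece 𝒜 F f hf i) :=
  inferInstanceAs (AddCommGroup (PolynomialModule _ _))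

noncomputable instance (i : ι) : Module A (Piece 𝒜 F f hf i) :=
  Module.compHom (PolynomialModule Γ(Proj 𝒜, Proj.basicOpen 𝒜 (f i)) Γ(F, Proj.basicOpen 𝒜 (f i))) (chiHom 𝒜 (hf i))

/-- The coefficient of degree `d`. -/
noncomputable def co {i : ι} (x : Piece 𝒜 F f hf i) (d : ℕ) : Γ(F, Proj.basicOpen 𝒜 (f i)) :=
  (show PolynomialModule _ _ from x).coeff d

theorem co_add {i : ι} (x y : Piece 𝒜 F f hf i) (d : ℕ) :
    co 𝒜 F f hf (x + y) d = co 𝒜 F f hf x d + co 𝒜 F f hf y d :=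
  DFunLike.congr_fun (PolynomialModule.coeff_add _ _) d

theorem co_zero {i : ι} (d : ℕ) : co 𝒜 F f hf (0 : Piece 𝒜 F f hf i) d = 0 := rfl

theorem co_smul {i : ι} {e : ℕ} {a : A} (ha : a ∈ 𝒜 e) (x : Piece 𝒜 F f hf i) (d : ℕ) :
    co 𝒜 F f hf (a • x) d = if e ≤ d then fr 𝒜 (hf i) e ⟨a, ha⟩ • co 𝒜 F f hf x (d - e) else 0 := by
  show (chiHom 𝒜 (hf i) a • (show PolynomialModule _ _ from x)).coeff d = _
  rw [chiHom_of_mem 𝒜 (hf i) ha]
  exact PolynomialModule.monomial_smul_apply _ _ _ _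

theorem piece_ext {i : ι} {x y : Piece 𝒜 F f hf i} (h : ∀ d, co 𝒜 F f hf x d = co 𝒜 F f hf y d) : x = y :=
  PolynomialModule.coeff_injective (Finsupp.ext h)

/-- The compatible families of degree `d`. -/
def Compat (d : ℕ) (s : ∀ i, Γ(F, Proj.basicOpen 𝒜 (f i))) : Prop :=
  ∀ i j, mres F (inf_le_right : Proj.basicOpen 𝒜 (f i) ⊓ Proj.basicOpen 𝒜 (f j) ≤ Proj.basicOpen 𝒜 (f j)) (s j) =
    ores (inf_le_right : Proj.basicOpen 𝒜 (f i) ⊓ Proj.basicOpen 𝒜 (f j) ≤ Proj.basicOpen 𝒜 (f j))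
        (fr 𝒜 (hf j) d ⟨f i ^ d, by simpa using SetLike.pow_mem_graded d (hf i)⟩) •
      mres F (inf_le_left : Proj.basicOpen 𝒜 (f i) ⊓ Proj.basicOpen 𝒜 (f j) ≤ Proj.basicOpen 𝒜 (f i)) (s i)

theorem compat_zero (d : ℕ) : Compat 𝒜 F f hf d (fun _ => 0) := fun i j => by
  rw [map_zero, map_zero, smul_zero]

theorem Compat.add {d : ℕ} {s t : ∀ i, Γ(F, Proj.basicOpen 𝒜 (f i))} (hs : Compat 𝒜 F f hf d s)
    (ht : Compat 𝒜 F f hf d t) : Compat 𝒜 F f hf d (fun i => s i + t i) := fun i j => by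
  rw [map_add, map_add, smul_add, hs i j, ht i j]

theorem Compat.smul {d e : ℕ} (a : 𝒜 e) {s : ∀ i, Γ(F, Proj.basicOpen 𝒜 (f i))} (hs : Compat 𝒜 F f hf d s) :
    Compat 𝒜 F f hf (d + e) (fun i => fr 𝒜 (hf i) e a • s i) := fun i j => by
  rw [mres_smul, mres_smul, hs i j, smul_smul, smul_smul]
  congr 1
  refine sectionO_ext fun x hx => ?_
  rw [valO_mul, valO_mul, valO_map, valO_map, valO_map, valO_map, valO_fr, valO_fr, valO_fr, valO_fr,
    Localization.mk_mul, Localization.mk_mul, Localization.mk_eq_mk_iff, Localization.r_iff_exists]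
  refine ⟨1, ?_⟩
  simp only [OneMemClass.coe_one, one_mul, Submonoid.coe_mul]
  ring

/-- `Γ_*(F)`. -/
noncomputable def Gam : Submodule A (∀ i, Piece 𝒜 F f hf i) where
  carrier := {x | ∀ d, Compat 𝒜 F f hf d fun i => co 𝒜 F f hf (x i) d}
  zero_mem' d := compat_zero 𝒜 F f hf d
  add_mem' {x y} hx hy d := by
    simp only [Pi.add_apply, co_add]
    exact (hx d).add 𝒜 F f hf (hy d)
  smul_mem' a x hx := by
    induction a using DirectSum.Decomposition.inductionOn 𝒜 with
    | zero => rw [zero_smul]; exact fun d => compat_zero 𝒜 F f hf d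
    | @homogeneous e a =>
      intro d
      simp only [Pi.smul_apply, co_smul 𝒜 F f hf a.2]
      by_cases h : e ≤ d
      · simp only [if_pos h]
        have := (hx (d - e)).smul 𝒜 F f hf a
        rwa [Nat.sub_add_cancel h] at this
      · simp only [if_neg h]
        exact compat_zero 𝒜 F f hf d
    | add a b ha hb =>
      intro d
      simp only [add_smul, Pi.add_apply, co_add]
      exact (ha d).add 𝒜 F f hf (hb d)

/-- The homogeneous elements of degree `d`. -/
noncomputable def gamDeg (d : ℕ) : AddSubgroup (Gam 𝒜 F f hf) where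
  carrier := {x | ∀ i n, n ≠ d → co 𝒜 F f hf (x.1 i) n = 0}
  zero_mem' _ _ _ := rfl
  add_mem' {x y} hx hy i n h := by
    show co 𝒜 F f hf (x.1 i + y.1 i) n = 0
    rw [co_add, hx i n h, hy i n h, add_zero]
  neg_mem' {x} hx i n h := by
    have h1 := co_add 𝒜 F f hf (-x.1 i) (x.1 i) n
    rw [neg_add_cancel, co_zero, hx i n h, add_zero] at h1
    exact h1.symm

instance : SetLike.GradedSMul 𝒜 (gamDeg 𝒜 F f hf) where
  smul_mem := fun {e d a x} ha hx i n h => by
    show co 𝒜 F f hf (a • x.1 i) n = 0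
    rw [co_smul 𝒜 F f hf ha]
    split_ifs with hle
    · rw [hx i (n - e) (by simp only [vadd_eq_add] at h; omega), smul_zero]
    · rfl

variable {𝒜 F f hf}

/-- The component of degree `d`. -/
noncomputable def gamComp (d : ℕ) (x : Gam 𝒜 F f hf) : gamDeg 𝒜 F f hf d :=
  ⟨⟨fun i => (PolynomialModule.single _ d (co 𝒜 F f hf (x.1 i) d) : PolynomialModule _ _), fun n => by
    by_cases h : n = d
    · subst h
      convert x.2 n using 1
      funext i
      exact Finsupp.single_eq_same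
    · convert compat_zero 𝒜 F f hf n using 1
      funext i
      exact Finsupp.single_eq_of_ne h⟩,
    fun i n h => Finsupp.single_eq_of_ne h⟩

theorem co_gamComp (d : ℕ) (x : Gam 𝒜 F f hf) (i : ι) (n : ℕ) :
    co 𝒜 F f hf ((gamComp d x : Gam 𝒜 F f hf).1 i) n = if n = d then co 𝒜 F f hf (x.1 i) n else 0 := by
  by_cases h : n = d
  · subst h; rw [if_pos rfl]; exact Finsupp.single_eq_same
  · rw [if_neg h]; exact Finsupp.single_eq_of_ne h

theorem gamComp_add (d : ℕ) (x y : Gam 𝒜 F f hf) : gamComp d (x + y) = gamComp d x + gamComp d y := by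
  refine Subtype.ext (Subtype.ext (funext fun i => piece_ext 𝒜 F f hf fun n => ?_))
  show co 𝒜 F f hf ((gamComp d (x + y) : Gam 𝒜 F f hf).1 i) n =
    co 𝒜 F f hf ((gamComp d x : Gam 𝒜 F f hf).1 i + (gamComp d y : Gam 𝒜 F f hf).1 i) n
  rw [co_add, co_gamComp, co_gamComp, co_gamComp]
  split_ifs with h
  · exact co_add 𝒜 F f hf _ _ _
  · rw [add_zero]

theorem co_sum {κ : Type*} (s : Finset κ) {i : ι} (x : κ → Piece 𝒜 F f hf i) (d : ℕ) :
    co 𝒜 F f hf (∑ k ∈ s, x k) d = ∑ k ∈ s, co 𝒜 F f hf (x k) d :=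
  map_sum (AddMonoidHom.mk' (fun y : Piece 𝒜 F f hf i => co 𝒜 F f hf y d) fun a b => co_add 𝒜 F f hf a b d) x s

variable [Fintype ι]

open Classical in
/-- The degrees occurring in `x`. -/
noncomputable def degs (x : Gam 𝒜 F f hf) : Finset ℕ :=
  Finset.univ.biUnion fun i => (show PolynomialModule _ _ from x.1 i).coeff.support

omit [Fintype ι] in
theorem co_eq_zero_of_notMem [Fintype ι] (x : Gam 𝒜 F f hf) (i : ι) {d : ℕ} (h : d ∉ degs x) :
    co 𝒜 F f hf (x.1 i) d = 0 := by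
  classical
  exact Finsupp.notMem_support_iff.1 fun hd => h (Finset.mem_biUnion.2 ⟨i, Finset.mem_univ i, hd⟩)

open Classical in
noncomputable instance gamDecomposition : DirectSum.Decomposition (gamDeg 𝒜 F f hf) where
  decompose' x := ∑ d ∈ degs x, DirectSum.of (fun d => gamDeg 𝒜 F f hf d) d (gamComp d x)
  left_inv x := by
    rw [map_sum]
    simp only [DirectSum.coeAddMonoidHom_of]
    refine Subtype.ext (funext fun i => piece_ext 𝒜 F f hf fun n => ?_)
    rw [Submodule.coe_sum, Finset.sum_apply, co_sum]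
    simp only [co_gamComp, Finset.sum_ite_eq]
    split_ifs with h
    · rfl
    · exact (co_eq_zero_of_notMem x i h).symm
  right_inv D := by
    refine DFinsupp.ext fun d => ?_
    have key : ∀ D : DirectSum ℕ (fun d => gamDeg 𝒜 F f hf d),
        gamComp d (DirectSum.coeAddMonoidHom (gamDeg 𝒜 F f hf) D) = D d := fun D => by
      induction D using DirectSum.induction_on with
      | zero =>
        refine Subtype.ext (Subtype.ext (funext fun i => piece_ext 𝒜 F f hf fun n => ?_))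
        rw [co_gamComp]
        split_ifs <;> rfl
      | of e y =>
        rw [DirectSum.coeAddMonoidHom_of]
        refine Subtype.ext (Subtype.ext (funext fun i => piece_ext 𝒜 F f hf fun n => ?_))
        rw [co_gamComp]
        by_cases hde : e = d
        · subst hde
          rw [DirectSum.of_eq_same]
          split_ifs with h
          · rfl
          · exact (y.2 i n h).symm
        · rw [DirectSum.of_eq_of_ne _ _ _ (Ne.symm hde)]
          split_ifs with h
          · exact y.2 i n (by omega)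
          · rfl
      | add a b ha hb => rw [map_add, gamComp_add, ha, hb]; rfl
    set x := DirectSum.coeAddMonoidHom (gamDeg 𝒜 F f hf) D with hx
    rw [DFinsupp.finsetSum_apply, ← key D]
    by_cases h : d ∈ degs x
    · rw [Finset.sum_eq_single d (fun e _ he => DirectSum.of_eq_of_ne _ _ _ (Ne.symm he)) (fun h' => absurd h h')]
      exact DirectSum.of_eq_same _ _
    · rw [Finset.sum_eq_zero fun e he => DirectSum.of_eq_of_ne _ _ _ (fun h' => h (by rw [h']; exact he))]
      refine Subtype.ext (Subtype.ext (funext fun i => piece_ext 𝒜 F f hf fun n => ?_))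
      rw [co_gamComp]
      split_ifs with hn
      · subst hn; exact (co_eq_zero_of_notMem x i h).symm
      · rfl

end Groth.Agent.GrMod11
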