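import Groth.Agent.Lib.GrMod11.GammaIso
import Groth.Agent.Lib.GrMod11.Exact
import Groth.Agent.Lib.ModM1.Coh

/-!
Quasi-coherent modules on `Proj` come from graded modules, those of finite type from finite ones.
-/

set_option autoImplicit false
set_option linter.unusedSectionVars false

open CategoryTheory CategoryTheory.Limits AlgebraicGeometry TopologicalSpace Opposite HomogeneousLocalization

universe u

namespace Groth.Agent.GrMod11

open Groth.Agent.GrTw11 Groth.Agent.M1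

section Sub

variable {R A : Type u} [CommRing R] [CommRing A] [Algebra R A] (𝒜 : ℕ → Submodule R A) [GradedAlgebra 𝒜]
  {M : Type u} [AddCommGroup M] [Module R M] [Module A M] [IsScalarTower R A M] (ℳ : ℕ → Submodule R M)
  (N : Submodule A M)

/-- The grading of a submodule. -/
def subDeg (d : ℕ) : Submodule R N := (ℳ d).comap (N.subtype.restrictScalars R)

instance subDeg_gradedSMul [SetLike.GradedSMul 𝒜 ℳ] : SetLike.GradedSMul 𝒜 (subDeg ℳ N) where
  smul_mem {e d a x} ha hx := by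
    show (a • x : N).1 ∈ ℳ (e +ᵥ d)
    exact SetLike.GradedSMul.smul_mem ha hx

variable [DirectSum.Decomposition ℳ]

theorem decompose_smul_mem_span [SetLike.GradedSMul 𝒜 ℳ] {T : Set M} (hT : ∀ t ∈ T, ∃ d, t ∈ ℳ d) {x : M}
    (hx : x ∈ Submodule.span A T) :
    ∀ (a : A) (i : ℕ), (DirectSum.decompose ℳ (a • x) i : M) ∈ Submodule.span A T := by
  classical
  induction hx using Submodule.span_induction with
  | mem t ht =>
    intro a
    obtain ⟨d, hd⟩ := hT t ht
    induction a using DirectSum.Decomposition.inductionOn 𝒜 with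
    | zero => intro i; simp
    | @homogeneous e a =>
      intro i
      by_cases h : e + d = i
      · subst h
        rw [DirectSum.decompose_of_mem_same ℳ (smul_mem_graded 𝒜 a.2 hd)]
        exact Submodule.smul_mem _ _ (Submodule.subset_span ht)
      · rw [DirectSum.decompose_of_mem_ne ℳ (smul_mem_graded 𝒜 a.2 hd) h]; exact zero_mem _
    | add a b ha hb =>
      intro i
      rw [add_smul, DirectSum.decompose_add, DirectSum.add_apply, AddMemClass.coe_add]
      exact add_mem (ha i) (hb i)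
  | zero => intro a i; simp
  | add x y _ _ hx hy =>
    intro a i
    rw [smul_add, DirectSum.decompose_add, DirectSum.add_apply, AddMemClass.coe_add]
    exact add_mem (hx a i) (hy a i)
  | smul b y _ hy =>
    intro a i
    rw [smul_smul]
    exact hy _ i

instance subDeg_addSubgroupClass : AddSubgroupClass (Submodule R N) N := Submodule.addSubgroupClass

/-- The graded submodules decompose. -/
theorem subDeg_isInternal (hN : ∀ x ∈ N, ∀ i, (DirectSum.decompose ℳ x i : M) ∈ N) :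
    DirectSum.IsInternal (subDeg ℳ N) := by
  classical
  refine ⟨fun p q h => ?_, fun x => ?_⟩
  · let g : DirectSum ℕ (fun i => ↥(subDeg ℳ N i)) →+ DirectSum ℕ (fun i => ↥(ℳ i)) :=
      DirectSum.map fun i => AddMonoidHom.mk' (fun y => ⟨y.1.1, y.2⟩) fun _ _ => rfl
    have key : ∀ p, DirectSum.coeAddMonoidHom ℳ (g p) = (DirectSum.coeAddMonoidHom (subDeg ℳ N) p : N).1 := by
      intro p
      induction p using DirectSum.induction_on with
      | zero => simp
      | of i y => simp [g]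
      | add a b ha hb => simp [ha, hb]
    have hg : g p = g q :=
      (DirectSum.Decomposition.isInternal ℳ).1 ((key p).trans ((congrArg Subtype.val h).trans (key q).symm))
    refine DFinsupp.ext fun i => Subtype.ext (Subtype.ext ?_)
    have := congrArg Subtype.val (DFunLike.congr_fun hg i)
    exact this
  · refine ⟨∑ i ∈ (DirectSum.decompose ℳ x.1).support, DirectSum.of _ i ⟨⟨_, hN x.1 x.2 i⟩,
      (SetLike.coe_mem (DirectSum.decompose ℳ x.1 i) : _)⟩, Subtype.ext ?_⟩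
    simp only [map_sum, DirectSum.coeAddMonoidHom_of]
    rw [Submodule.coe_sum]
    exact DirectSum.sum_support_decompose ℳ x.1

end Sub

section Gam

variable {R A : Type u} [CommRing R] [CommRing A] [Algebra R A] (𝒜 : ℕ → Submodule R A) [GradedAlgebra 𝒜]
  (F : (Proj 𝒜).Modules) {ι : Type u} (f : ι → A) (hf : ∀ i, f i ∈ 𝒜 1)

noncomputable instance gamModule : Module R (Gam 𝒜 F f hf) := Module.compHom _ (algebraMap R A)

instance gamTower : IsScalarTower R A (Gam 𝒜 F f hf) :=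
  IsScalarTower.of_algebraMap_smul fun _ _ => rfl

/-- The grading of `Γ_*(F)` by `R`-submodules. -/
noncomputable def gamR (d : ℕ) : Submodule R (Gam 𝒜 F f hf) where
  toAddSubmonoid := (gamDeg 𝒜 F f hf d).toAddSubmonoid
  smul_mem' r m hm := by
    show algebraMap R A r • m ∈ gamDeg 𝒜 F f hf d
    simpa using smul_mem_graded 𝒜 (SetLike.algebraMap_mem_graded 𝒜 r) (show m ∈ gamDeg 𝒜 F f hf d from hm)

instance gamR_gradedSMul : SetLike.GradedSMul 𝒜 (gamR 𝒜 F f hf) where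
  smul_mem {_ _ _ _} ha hm := SetLike.GradedSMul.smul_mem (A := 𝒜) (B := gamDeg 𝒜 F f hf) ha hm

noncomputable instance gamRDecomposition [Fintype ι] : DirectSum.Decomposition (gamR 𝒜 F f hf) where
  decompose' := (gamDecomposition (F := F) (f := f) (hf := hf)).decompose'
  left_inv := (gamDecomposition (F := F) (f := f) (hf := hf)).left_inv
  right_inv := (gamDecomposition (F := F) (f := f) (hf := hf)).right_inv

variable {𝒜 F f hf} [Fintype ι] [Fact (Coh.IsQCoh F)] (hcov : ∀ x : Proj 𝒜, ∃ i, x ∈ Proj.basicOpen 𝒜 (f i))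

/-- `Γ_*(F)~ ≅ F`. -/
noncomputable def betaIso : _root_.GrMod.tilde 𝒜 (gamR 𝒜 F f hf) 0 ≅ F :=
  @asIso _ _ _ _ (beta (F := F) (hf := hf) hcov) (isIso_beta (F := F) (hf := hf) hcov)

include hcov in
theorem exists_finite (hFT : CohB1.IsFT F) :
    ∃ T : Finset (Gam 𝒜 F f hf), (∀ t ∈ T, ∃ d, t ∈ gamR 𝒜 F f hf d) ∧
      ∀ (_ : DirectSum.Decomposition (subDeg (gamR 𝒜 F f hf) (Submodule.span A (T : Set (Gam 𝒜 F f hf))))),
        Nonempty (_root_.GrMod.tilde 𝒜 (subDeg (gamR 𝒜 F f hf) (Submodule.span A (T : Set (Gam 𝒜 F f hf)))) 0 ≅ F) := by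
  classical
  have hF : Coh.IsQCoh F := Fact.out
  haveI := hF
  have haff : ∀ j, IsAffineOpen (Proj.basicOpen 𝒜 (f j)) := fun j =>
    Proj.isAffineOpen_basicOpen 𝒜 (f j) (hf j) Nat.one_pos
  choose G hG using fun j => (finite_sections hF hFT (haff j)).fg_top
  have hrep : ∀ (j : ι) (ρ : G j), ∃ (d k : ℕ) (m : Gam 𝒜 F f hf) (hm : m ∈ gamR 𝒜 F f hf d) (hd : d = k * 1),
      (betaIso hcov).hom.app (Proj.basicOpen 𝒜 (f j))
        (frac 𝒜 (ℳ := gamR 𝒜 F f hf) (n := 0) _ hm (GrTw11.pow_mem_smul 𝒜 (hf j) k) (Or.inl (by simp [hd]))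
          (fun x hx => GrTw11.pow_notMem 𝒜 hx k)) = ρ.1 := fun j ρ => by
    obtain ⟨σ₀, hσ⟩ := ((ConcreteCategory.isIso_iff_bijective _).1
      (Scheme.Modules.Hom.isIso_iff_isIso_app.1 (betaIso hcov).isIso_hom (Proj.basicOpen 𝒜 (f j)))).2 ρ.1
    obtain ⟨d, k, m, hm, hd, hval⟩ := exists_eq_frac_of_pos 𝒜 (gamR 𝒜 F f hf) Nat.one_pos (hf j)
      (σ₀ : Sec (ℳ := gamR 𝒜 F f hf) 0 _)
    refine ⟨d, k, m, hm, by omega, Eq.trans (congrArg _ ?_) hσ⟩
    exact sec_ext fun x hx => (hval x hx).symm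
  choose d k m hm hd hmρ using hrep
  let T : Finset (Gam 𝒜 F f hf) := Finset.univ.biUnion fun j => (G j).attach.image (m j)
  have hT : ∀ t ∈ T, ∃ d, t ∈ gamR 𝒜 F f hf d := fun t ht => by
    obtain ⟨j, -, hj⟩ := Finset.mem_biUnion.1 ht
    obtain ⟨ρ, -, rfl⟩ := Finset.mem_image.1 hj
    exact ⟨_, hm j ρ⟩
  refine ⟨T, hT, fun _ => ?_⟩
  let N := Submodule.span A (T : Set (Gam 𝒜 F f hf))
  let g := _root_.GrMod.map 𝒜 (ℳ := subDeg (gamR 𝒜 F f hf) N) (𝒩 := gamR 𝒜 F f hf) N.subtype (fun _ _ h => h) 0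
  let φ := g ≫ (betaIso hcov).hom
  suffices IsIso φ from ⟨asIso φ⟩
  have hinj : ∀ U, Function.Injective (φ.app U) := fun U a b h =>
    ((ConcreteCategory.isIso_iff_bijective _).1
      (Scheme.Modules.Hom.isIso_iff_isIso_app.1 (betaIso hcov).isIso_hom U)).1.comp
      (map_app_injective 𝒜 (ℳ := subDeg (gamR 𝒜 F f hf) N) (𝒩 := gamR 𝒜 F f hf) N.subtype (fun _ _ h => h) 0 0 (fun _ _ x _ hx => Subtype.ext hx) U)
        (by simpa [φ, g, Scheme.Modules.Hom.comp_app] using h)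
  have hsurj : ∀ j, Function.Surjective (φ.app (Proj.basicOpen 𝒜 (f j))) := fun j ρ => by
    have hρ : ρ ∈ Submodule.span Γ(Proj 𝒜, Proj.basicOpen 𝒜 (f j)) (G j : Set Γ(F, Proj.basicOpen 𝒜 (f j))) := by
      rw [hG j]; trivial
    induction hρ using Submodule.span_induction with
    | mem a ha =>
      have hmN : m j ⟨a, ha⟩ ∈ N := Submodule.subset_span
        (Finset.mem_biUnion.2 ⟨j, Finset.mem_univ _, Finset.mem_image.2 ⟨⟨a, ha⟩, Finset.mem_attach _ _, rfl⟩⟩)
      refine ⟨frac 𝒜 (ℳ := subDeg (gamR 𝒜 F f hf) N) (n := 0) (m := ⟨_, hmN⟩) _ (hm j ⟨a, ha⟩)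
        (GrTw11.pow_mem_smul 𝒜 (hf j) (k j ⟨a, ha⟩)) (Or.inl (by simp [hd j ⟨a, ha⟩]))
        (fun x hx => GrTw11.pow_notMem 𝒜 hx _), Eq.trans ?_ (hmρ j ⟨a, ha⟩)⟩
      refine congrArg ((betaIso hcov).hom.app _) (sec_ext (n := 0) (ℳ := gamR 𝒜 F f hf) fun x hx => ?_)
      refine (val_map 𝒜 (ℳ := subDeg (gamR 𝒜 F f hf) N) (𝒩 := gamR 𝒜 F f hf) N.subtype (fun _ _ h => h) 0 _ x hx).trans ?_
      exact locMap_mkx 𝒜 N.subtype x ⟨_, hmN⟩ _ _
    | zero => exact ⟨0, map_zero _⟩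
    | add a b _ _ ha hb =>
      obtain ⟨a', rfl⟩ := ha; obtain ⟨b', rfl⟩ := hb
      exact ⟨a' + b', map_add _ _ _⟩
    | smul c a _ ha =>
      obtain ⟨a', rfl⟩ := ha
      exact ⟨c • a', Scheme.Modules.Hom.app_smul φ c a'⟩
  refine Scheme.Modules.Hom.isIso_iff_isIso_app.2 fun V => (ConcreteCategory.isIso_iff_bijective _).2
    (bijective_app_of_small _ ⊤ (fun V _ x hx => ?_) le_top)
  obtain ⟨j, hj⟩ := hcov x
  obtain ⟨h₀, ⟨e, he, hh⟩, hxh, hhV⟩ := exists_basicOpen_pos_nhd 𝒜 hx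
  let r := fr 𝒜 (hf j) e ⟨h₀, hh⟩
  have hr := basicOpen_fr (hf j) ⟨h₀, hh⟩
  refine ⟨(Proj 𝒜).basicOpen r, hr.ge ⟨hj, hxh⟩, hr.le.trans (inf_le_right.trans hhV), hinj _, fun ρ => ?_⟩
  obtain ⟨K, t, ht⟩ := exists_pow_smul_eq_res_affine F (haff j) r ρ
  obtain ⟨t', rfl⟩ := hsurj j t
  obtain ⟨v, hv⟩ : ∃ v : Γ(Proj 𝒜, (Proj 𝒜).basicOpen r), v * ores ((Proj 𝒜).basicOpen_le r) r ^ K = 1 :=
    ((RingedSpace.isUnit_res_basicOpen _ r).pow K).exists_left_inv
  have hle : (Proj 𝒜).basicOpen r ≤ Proj.basicOpen 𝒜 (f j) := hr.le.trans inf_le_left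
  refine ⟨v • M1.mres _ hle t', ?_⟩
  rw [Scheme.Modules.Hom.app_smul]
  rw [show φ.app _ (M1.mres _ hle t') = M1.mres F hle (φ.app _ t') from ConcreteCategory.congr_hom (φ.mapPresheaf.naturality (homOfLE hle).op) t', ht, smul_smul]
  exact (congrArg (· • ρ) hv).trans (one_smul _ _)

include hcov hf in
/-- A quasi-coherent module of finite type comes from a finite graded module. -/
theorem exists_finite_tilde (hFT : CohB1.IsFT F) :
    ∃ (N : Type u) (_ : AddCommGroup N) (_ : Module R N) (_ : Module A N) (_ : IsScalarTower R A N)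
      (𝒩 : ℕ → Submodule R N) (_ : DirectSum.Decomposition 𝒩) (_ : SetLike.GradedSMul 𝒜 𝒩),
      Module.Finite A N ∧ Nonempty (_root_.GrMod.tilde 𝒜 𝒩 0 ≅ F) := by
  obtain ⟨T, hT, hiso⟩ := exists_finite (hf := hf) hcov hFT
  let N := Submodule.span A (T : Set (Gam 𝒜 F f hf))
  have hN : ∀ x ∈ N, ∀ i, (DirectSum.decompose (gamR 𝒜 F f hf) x i : Gam 𝒜 F f hf) ∈ N := fun x hx i => by
    have h := decompose_smul_mem_span 𝒜 (gamR 𝒜 F f hf) hT hx 1 i
    rw [one_smul] at h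
    exact h
  let dec := (subDeg_isInternal (gamR 𝒜 F f hf) N hN).chooseDecomposition
  exact ⟨N, inferInstance, inferInstance, inferInstance, inferInstance, subDeg (gamR 𝒜 F f hf) N, dec, inferInstance,
    Module.Finite.span_of_finite A T.finite_toSet, hiso dec⟩

end Gam

end Groth.Agent.GrMod11
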