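import Groth.Agent.Lib.GrMod11.Gamma
import Groth.Agent.Lib.GrMod11.Comap
import Groth.Agent.Lib.ModM1.Exact

/-!
`Γ_*(F)~ ≅ F` for a quasi-coherent `F`.
-/

set_option autoImplicit false
set_option linter.unusedSectionVars false

open CategoryTheory CategoryTheory.Limits AlgebraicGeometry TopologicalSpace Opposite HomogeneousLocalization

universe u

namespace Groth.Agent.GrMod11

open Groth.Agent.GrTw11 Groth.Agent.M1

variable {A σ : Type u} [CommRing A] [SetLike σ A] [AddSubgroupClass σ A] {𝒜 : ℕ → σ} [GradedRing 𝒜]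
  {F : (Proj 𝒜).Modules} {ι : Type u} {f : ι → A} {hf : ∀ i, f i ∈ 𝒜 1}

/-- `ρ` is the section with `(t / f_i ^ k) • ρ = m_i` over `W`. -/
def IsQuot (i : ι) (k : ℕ) (m : Gam 𝒜 F f hf) (t : 𝒜 k) {W : (Proj 𝒜).Opens}
    (hWi : W ≤ Proj.basicOpen 𝒜 (f i)) (ρ : Γ(F, W)) : Prop :=
  ores hWi (fr 𝒜 (hf i) k t) • ρ = mres F hWi (co 𝒜 F f hf (m.1 i) k)

theorem isUnit_ores_fr {f₀ : A} (h₀ : f₀ ∈ 𝒜 1) (k : ℕ) (t : 𝒜 k) {W : (Proj 𝒜).Opens}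
    (hWi : W ≤ Proj.basicOpen 𝒜 f₀) (hWt : W ≤ Proj.basicOpen 𝒜 (t : A)) :
    IsUnit (ores hWi (fr 𝒜 h₀ k t)) := by
  obtain ⟨v, hv⟩ := GrTw11.exists_valO_eq (GrTw11.frac 𝒜 W (SetLike.pow_mem_graded k h₀) t.2 (n := 0) (by simp) hWt)
  refine IsUnit.of_mul_eq_one v (sectionO_ext fun x hx => ?_)
  rw [valO_mul, valO_map, valO_fr, hv, GrTw11.val_frac, valO_one]
  exact GrTw11.mk_mul_mk_eq_one 𝒜 (hWt hx) _

theorem IsQuot.restrict {i : ι} {k : ℕ} {m : Gam 𝒜 F f hf} {t : 𝒜 k} {W W' : (Proj 𝒜).Opens}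
    {hWi : W ≤ Proj.basicOpen 𝒜 (f i)} {ρ : Γ(F, W)} (h : IsQuot i k m t hWi ρ) (hle : W' ≤ W) :
    IsQuot i k m t (hle.trans hWi) (mres F hle ρ) := by
  unfold IsQuot
  rw [← ores_ores hWi hle, ← mres_smul, h, mres_mres]

theorem IsQuot.unique {i : ι} {k : ℕ} {m : Gam 𝒜 F f hf} {t : 𝒜 k} {W : (Proj 𝒜).Opens}
    {hWi : W ≤ Proj.basicOpen 𝒜 (f i)} {ρ ρ' : Γ(F, W)} (hWt : W ≤ Proj.basicOpen 𝒜 (t : A))
    (h : IsQuot i k m t hWi ρ) (h' : IsQuot i k m t hWi ρ') : ρ = ρ' :=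
  (isUnit_ores_fr (hf i) k t hWi hWt).smul_left_cancel.1 (h.trans h'.symm)

theorem IsQuot.change_index {i j : ι} {k : ℕ} {m : Gam 𝒜 F f hf} {t : 𝒜 k} {W : (Proj 𝒜).Opens}
    {hWi : W ≤ Proj.basicOpen 𝒜 (f i)} {ρ : Γ(F, W)} (h : IsQuot i k m t hWi ρ)
    (hWj : W ≤ Proj.basicOpen 𝒜 (f j)) : IsQuot j k m t hWj ρ := by
  have hc := congrArg (M1.mres F (le_inf hWi hWj)) (m.2 k i j)
  simp only [] at hc
  rw [mres_smul, mres_mres, mres_mres, ores_ores, ← h, smul_smul] at hc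
  refine Eq.trans ?_ hc.symm
  congr 1
  refine sectionO_ext fun x hx => ?_
  rw [valO_mul, valO_map, valO_map, valO_map, valO_fr, valO_fr, valO_fr, Localization.mk_mul,
    Localization.mk_eq_mk_iff, Localization.r_iff_exists]
  refine ⟨1, ?_⟩
  simp only [OneMemClass.coe_one, one_mul, Submonoid.coe_mul]
  ring

theorem co_smul_add (i : ι) {e k : ℕ} (a : 𝒜 e) (m : Gam 𝒜 F f hf) :
    co 𝒜 F f hf (((a : A) • m).1 i) (e + k) = fr 𝒜 (hf i) e a • co 𝒜 F f hf (m.1 i) k := by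
  show co 𝒜 F f hf ((a : A) • m.1 i) (e + k) = _
  rw [co_smul 𝒜 F f hf a.2, if_pos (Nat.le_add_right _ _), Nat.add_sub_cancel_left]

variable [Fintype ι]

theorem IsQuot.change_frac {i : ι} {k k' : ℕ} {m m' : Gam 𝒜 F f hf} {t : 𝒜 k} {t' : 𝒜 k'}
    {W : (Proj 𝒜).Opens} {hWi : W ≤ Proj.basicOpen 𝒜 (f i)} {ρ : Γ(F, W)}
    (hm : m ∈ gamDeg 𝒜 F f hf k) (hm' : m' ∈ gamDeg 𝒜 F f hf k')
    (hWt : W ≤ Proj.basicOpen 𝒜 (t : A)) (hWt' : W ≤ Proj.basicOpen 𝒜 (t' : A))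
    (hval : ∀ (x : ProjectiveSpectrum 𝒜) (hx : x ∈ W), mkx 𝒜 x m (t : A) (hWt hx) = mkx 𝒜 x m' (t' : A) (hWt' hx))
    (h : IsQuot i k m t hWi ρ) : IsQuot i k' m' t' hWi ρ := by
  have hloc : ∀ x : W, ∃ (W' : (Proj 𝒜).Opens) (hle : W' ≤ W), x.1 ∈ W' ∧
      mres F hle (ores hWi (fr 𝒜 (hf i) k' t') • ρ) = mres F hle (mres F hWi (co 𝒜 F f hf (m'.1 i) k')) := by
    rintro ⟨x, hx⟩
    obtain ⟨w, hw, hwe⟩ := (mkx_eq_iff 𝒜 _ _).1 (hval x hx)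
    have h1 : (t' : A) • m ∈ gamDeg 𝒜 F f hf (k' + k) := smul_mem_graded 𝒜 t'.2 hm
    have h2 : (t : A) • m' ∈ gamDeg 𝒜 F f hf (k' + k) := by
      rw [add_comm]; exact smul_mem_graded 𝒜 t.2 hm'
    obtain ⟨l, w', hl, hw', hw'e⟩ := exists_homogeneous_annihilator 𝒜 (gamDeg 𝒜 F f hf) (sub_mem h1 h2) hw
      (by rw [smul_sub, hwe, sub_self])
    refine ⟨W ⊓ Proj.basicOpen 𝒜 w', inf_le_left, ⟨hx, hw'⟩, ?_⟩
    rw [smul_sub, sub_eq_zero] at hw'e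
    have e1 := congrArg (fun z : Gam 𝒜 F f hf => co 𝒜 F f hf (z.1 i) (l + (k' + k))) hw'e
    rw [co_smul_add i ⟨w', hl⟩, co_smul_add i ⟨w', hl⟩, co_smul_add i t', show k' + k = k + k' from add_comm _ _,
      co_smul_add i t] at e1
    have hle : W ⊓ Proj.basicOpen 𝒜 w' ≤ Proj.basicOpen 𝒜 (f i) := inf_le_left.trans hWi
    replace e1 := congrArg (M1.mres F hle) e1
    simp only [mres_smul] at e1
    replace e1 := (isUnit_ores_fr (hf i) l ⟨w', hl⟩ hle inf_le_right).smul_left_cancel.1 e1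
    rw [← h.restrict inf_le_left, smul_comm (ores hle (fr 𝒜 (hf i) k' t'))] at e1
    rw [mres_smul, ores_ores, mres_mres]
    exact (isUnit_ores_fr (hf i) k t hle (inf_le_left.trans hWt)).smul_left_cancel.1 e1
  choose W' hle hxW' he using hloc
  exact TopCat.Sheaf.eq_of_locally_eq' ⟨F.presheaf, F.isSheaf⟩ W' W (fun x => homOfLE (hle x))
    (fun x hx => Opens.mem_iSup.2 ⟨⟨x, hx⟩, hxW' ⟨x, hx⟩⟩) _ _ he

/-- `ρ` corresponds to `s`. -/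
def Cor {V : (Proj 𝒜).Opens} (s : Sec (ℳ := gamDeg 𝒜 F f hf) 0 V) (ρ : Γ(F, V)) : Prop :=
  ∀ (x : ProjectiveSpectrum 𝒜), x ∈ V → ∃ (i : ι) (k : ℕ) (m : Gam 𝒜 F f hf) (t : 𝒜 k) (W : (Proj 𝒜).Opens)
    (hWV : W ≤ V) (hWi : W ≤ Proj.basicOpen 𝒜 (f i)) (hWt : W ≤ Proj.basicOpen 𝒜 (t : A)),
    x ∈ W ∧ m ∈ gamDeg 𝒜 F f hf k ∧ (∀ (y : ProjectiveSpectrum 𝒜) (hy : y ∈ W),
      val s y (hWV hy) = mkx 𝒜 y m (t : A) (hWt hy)) ∧ IsQuot i k m t hWi (M1.mres F hWV ρ)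

theorem Cor.isQuot {V : (Proj 𝒜).Opens} {s : Sec (ℳ := gamDeg 𝒜 F f hf) 0 V} {ρ : Γ(F, V)} (h : Cor s ρ)
    {i : ι} {k : ℕ} {m : Gam 𝒜 F f hf} {t : 𝒜 k} {W : (Proj 𝒜).Opens} (hm : m ∈ gamDeg 𝒜 F f hf k) (hWV : W ≤ V)
    (hWi : W ≤ Proj.basicOpen 𝒜 (f i)) (hWt : W ≤ Proj.basicOpen 𝒜 (t : A))
    (hs : ∀ (y : ProjectiveSpectrum 𝒜) (hy : y ∈ W), val s y (hWV hy) = mkx 𝒜 y m (t : A) (hWt hy)) :
    IsQuot i k m t hWi (M1.mres F hWV ρ) := by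
  choose j l n u U hUV hUj hUu hxU hn hsU hq using fun x : W => h x.1 (hWV x.2)
  refine TopCat.Sheaf.eq_of_locally_eq' ⟨F.presheaf, F.isSheaf⟩ (fun x => W ⊓ U x) W (fun x => homOfLE inf_le_left)
    (fun x hx => Opens.mem_iSup.2 ⟨⟨x, hx⟩, hx, hxU ⟨x, hx⟩⟩) _ _ fun x => ?_
  have h2 := ((hq x).restrict (inf_le_right : W ⊓ U x ≤ U x)).change_index (j := i) (inf_le_left.trans hWi)
  rw [mres_mres] at h2
  have h3 := h2.change_frac (hn x) hm (inf_le_right.trans (hUu x)) (inf_le_left.trans hWt) fun y hy =>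
    (hsU x y hy.2).symm.trans (hs y hy.1)
  show M1.mres F (inf_le_left : W ⊓ U x ≤ W) _ = M1.mres F (inf_le_left : W ⊓ U x ≤ W) _
  rw [mres_smul, ores_ores, mres_mres, mres_mres]
  exact h3

theorem exists_data (hcov : ∀ x : Proj 𝒜, ∃ i, x ∈ Proj.basicOpen 𝒜 (f i)) {V : (Proj 𝒜).Opens}
    (s : Sec (ℳ := gamDeg 𝒜 F f hf) 0 V) (x : ProjectiveSpectrum 𝒜) (hx : x ∈ V) :
    ∃ (i : ι) (k : ℕ) (m : Gam 𝒜 F f hf) (t : 𝒜 k) (W : (Proj 𝒜).Opens)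
      (hWV : W ≤ V) (_ : W ≤ Proj.basicOpen 𝒜 (f i)) (hWt : W ≤ Proj.basicOpen 𝒜 (t : A)),
      x ∈ W ∧ m ∈ gamDeg 𝒜 F f hf k ∧ ∀ (y : ProjectiveSpectrum 𝒜) (hy : y ∈ W),
        val s y (hWV hy) = mkx 𝒜 y m (t : A) (hWt hy) := by
  rcases s.2 ⟨x, hx⟩ with ⟨Va, ma, ia, a, b, ⟨m, hm⟩, t, nin, c, w⟩
  obtain ⟨i, hi⟩ := hcov x
  have hmb : m ∈ gamDeg 𝒜 F f hf b := by
    rcases c with c | c
    · have hab : a = b := by omega
      exact hab ▸ hm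
    · exact (show m = 0 from c) ▸ zero_mem _
  exact ⟨i, b, m, t, Va ⊓ Proj.basicOpen 𝒜 (f i), inf_le_left.trans ia.le, inf_le_right,
    fun y hy => nin ⟨y, hy.1⟩, ⟨ma, hi⟩, hmb, fun y hy => w ⟨y, hy.1⟩⟩

variable (hcov : ∀ x : Proj 𝒜, ∃ i, x ∈ Proj.basicOpen 𝒜 (f i))

include hcov in
theorem cor_unique {V : (Proj 𝒜).Opens} {s : Sec (ℳ := gamDeg 𝒜 F f hf) 0 V} {ρ ρ' : Γ(F, V)}
    (h : Cor s ρ) (h' : Cor s ρ') : ρ = ρ' := by
  choose i k m t W hWV hWi hWt hxW hm hs using fun x : V => exists_data hcov s x.1 x.2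
  exact TopCat.Sheaf.eq_of_locally_eq' ⟨F.presheaf, F.isSheaf⟩ W V (fun x => homOfLE (hWV x))
    (fun x hx => Opens.mem_iSup.2 ⟨⟨x, hx⟩, hxW ⟨x, hx⟩⟩) _ _ fun x =>
      (h.isQuot (hm x) (hWV x) (hWi x) (hWt x) (hs x)).unique (hWt x) (h'.isQuot (hm x) (hWV x) (hWi x) (hWt x) (hs x))

include hcov in
theorem exists_cor {V : (Proj 𝒜).Opens} (s : Sec (ℳ := gamDeg 𝒜 F f hf) 0 V) : ∃ ρ : Γ(F, V), Cor s ρ := by
  choose i k m t W hWV hWi hWt hxW hm hs using fun x : V => exists_data hcov s x.1 x.2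
  have hρ : ∀ x : V, ∃ ρ : Γ(F, W x), IsQuot (i x) (k x) (m x) (t x) (hWi x) ρ := fun x => by
    obtain ⟨v, hv⟩ := (isUnit_ores_fr (hf (i x)) (k x) (t x) (hWi x) (hWt x)).exists_right_inv
    refine ⟨v • M1.mres F (hWi x) (co 𝒜 F f hf ((m x).1 (i x)) (k x)), ?_⟩
    show _ • v • _ = _
    rw [smul_smul, hv, one_smul]
  choose ρ hρ using hρ
  obtain ⟨r, hr, -⟩ := TopCat.Sheaf.existsUnique_gluing' ⟨F.presheaf, F.isSheaf⟩ W V (fun x => homOfLE (hWV x))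
    (fun x hx => Opens.mem_iSup.2 ⟨⟨x, hx⟩, hxW ⟨x, hx⟩⟩) ρ fun x y => by
      show M1.mres F (inf_le_left : W x ⊓ W y ≤ W x) (ρ x) = M1.mres F (inf_le_right : W x ⊓ W y ≤ W y) (ρ y)
      have h1 := (((hρ x).restrict (inf_le_left : W x ⊓ W y ≤ W x)).change_index (j := i y) (inf_le_right.trans (hWi y))).change_frac
        (hm x) (hm y) (inf_le_left.trans (hWt x)) (inf_le_right.trans (hWt y)) fun z hz => (hs x z hz.1).symm.trans (hs y z hz.2)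
      exact h1.unique (inf_le_right.trans (hWt y)) ((hρ y).restrict inf_le_right)
  refine ⟨r, fun x hx => ⟨i ⟨x, hx⟩, k ⟨x, hx⟩, m ⟨x, hx⟩, t ⟨x, hx⟩, W ⟨x, hx⟩, hWV _, hWi _, hWt _, hxW _, hm _, hs _, ?_⟩⟩
  rw [show M1.mres F (hWV ⟨x, hx⟩) r = ρ ⟨x, hx⟩ from hr ⟨x, hx⟩]
  exact hρ _

theorem Cor.res {V V' : (Proj 𝒜).Opens} {s : Sec (ℳ := gamDeg 𝒜 F f hf) 0 V} {ρ : Γ(F, V)} (h : Cor s ρ)
    (hle : V' ≤ V) :
    Cor (M1.mres (_root_.GrMod.tilde 𝒜 (gamDeg 𝒜 F f hf) 0) hle s : Sec (ℳ := gamDeg 𝒜 F f hf) 0 V')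
      (M1.mres F hle ρ) := fun x hx => by
  obtain ⟨i, k, m, t, W, hWV, hWi, hWt, hxW, hm, hs, hq⟩ := h x (hle hx)
  refine ⟨i, k, m, t, W ⊓ V', inf_le_right, inf_le_left.trans hWi, inf_le_left.trans hWt, ⟨hxW, hx⟩, hm,
    fun y hy => hs y hy.1, ?_⟩
  have := hq.restrict (inf_le_left : W ⊓ V' ≤ W)
  rw [mres_mres] at this ⊢
  exact this

include hcov in
theorem Cor.add {V : (Proj 𝒜).Opens} {s s' : Γ(_root_.GrMod.tilde 𝒜 (gamDeg 𝒜 F f hf) 0, V)} {ρ ρ' : Γ(F, V)} (h : Cor s ρ)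
    (h' : Cor s' ρ') : Cor (s + s' : Γ(_root_.GrMod.tilde 𝒜 (gamDeg 𝒜 F f hf) 0, V)) (ρ + ρ') := fun x hx => by
  obtain ⟨i, k, m, t, W, hWV, hWi, hWt, hxW, hm, hs⟩ := exists_data hcov s x hx
  obtain ⟨i', k', m', t', W', hWV', hWi', hWt', hxW', hm', hs'⟩ := exists_data hcov s' x hx
  have hle : W ⊓ W' ≤ Proj.basicOpen 𝒜 (f i) := inf_le_left.trans hWi
  have htt : W ⊓ W' ≤ Proj.basicOpen 𝒜 ((t : A) * (t' : A)) := by
    rw [Proj.basicOpen_mul]; exact inf_le_inf hWt hWt'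
  refine ⟨i, k + k', (t' : A) • m + (t : A) • m', ⟨(t : A) * (t' : A), SetLike.mul_mem_graded t.2 t'.2⟩, W ⊓ W',
    inf_le_left.trans hWV, hle, htt, ⟨hxW, hxW'⟩,
    add_mem (add_comm k' k ▸ smul_mem_graded 𝒜 t'.2 hm) (smul_mem_graded 𝒜 t.2 hm'), fun y hy => ?_, ?_⟩
  · show val s y _ + val s' y _ = _
    rw [hs y hy.1, hs' y hy.2]
    exact LocalizedModule.mk_add_mk
  · have q1 := h.isQuot hm ((inf_le_left : W ⊓ W' ≤ W).trans hWV) hle (inf_le_left.trans hWt) fun y hy => hs y hy.1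
    have q2 := h'.isQuot (i := i) hm' ((inf_le_right : W ⊓ W' ≤ W').trans hWV') hle (inf_le_right.trans hWt') fun y hy => hs' y hy.2
    unfold IsQuot at q1 q2 ⊢
    show _ = M1.mres F hle (co 𝒜 F f hf (((t' : A) • m).1 i + ((t : A) • m').1 i) (k + k'))
    rw [co_add, map_add, fr_mul, map_mul, map_add, smul_add, co_smul_add i t, add_comm k k', co_smul_add i t',
      mres_smul, mres_smul, ← q1, ← q2]
    congr 1
    · rw [smul_smul, mul_comm]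
    · rw [← smul_smul]

include hcov in
theorem Cor.smul {V : (Proj 𝒜).Opens} {s : Γ(_root_.GrMod.tilde 𝒜 (gamDeg 𝒜 F f hf) 0, V)} {ρ : Γ(F, V)} (h : Cor s ρ)
    (r : Γ(Proj 𝒜, V)) :
    Cor (r • s : Γ(_root_.GrMod.tilde 𝒜 (gamDeg 𝒜 F f hf) 0, V))
      (r • ρ) := fun x hx => by
  obtain ⟨i, k, m, t, W, hWV, hWi, hWt, hxW, hm, hs⟩ := exists_data hcov s x hx
  rcases r.2 ⟨x, hx⟩ with ⟨Vr, mr, ir, e, ⟨a, ha⟩, ⟨b, hb⟩, ninb, wr⟩
  have hle : W ⊓ Vr ≤ Proj.basicOpen 𝒜 (f i) := inf_le_left.trans hWi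
  have htt : W ⊓ Vr ≤ Proj.basicOpen 𝒜 (b * (t : A)) := fun y hy hm' =>
    ((y : ProjectiveSpectrum 𝒜).isPrime.mem_or_mem hm').elim (ninb ⟨y, hy.2⟩) (hWt hy.1)
  have hr : ∀ (y : ProjectiveSpectrum 𝒜) (hy : y ∈ Vr),
      valO r y (ir.le hy) = Localization.mk a ⟨b, ninb ⟨y, hy⟩⟩ := fun y hy =>
    (congrArg HomogeneousLocalization.val (wr ⟨y, hy⟩)).trans (HomogeneousLocalization.val_mk _)
  refine ⟨i, e + k, a • m, ⟨b * (t : A), SetLike.mul_mem_graded hb t.2⟩, W ⊓ Vr, inf_le_left.trans hWV, hle, htt,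
    ⟨hxW, mr⟩, smul_mem_graded 𝒜 ha hm, fun y hy => ?_, ?_⟩
  · have h1 : val (n := 0) (ℳ := gamDeg 𝒜 F f hf)
        (r • s : Γ(_root_.GrMod.tilde 𝒜 (gamDeg 𝒜 F f hf) 0, V)) y (hWV hy.1) =
        valO r y (hWV hy.1) • val s y (hWV hy.1) := val_smul r _ y _
    refine h1.trans ?_
    rw [hr y hy.2, hs y hy.1]
    exact mk_smul_mkx 𝒜 a b m (t : A) _ _ _
  · have q1 := h.isQuot hm ((inf_le_left : W ⊓ Vr ≤ W).trans hWV) hle (inf_le_left.trans hWt) fun y hy => hs y hy.1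
    unfold IsQuot at q1 ⊢
    rw [mres_smul, co_smul_add i ⟨a, ha⟩, mres_smul, ← q1, fr_mul _ (hf i) ⟨b, hb⟩ t, map_mul, smul_smul, smul_smul]
    congr 1
    refine sectionO_ext fun y hy => ?_
    rw [valO_mul, valO_mul, valO_mul, valO_map, valO_map, valO_map, valO_map, valO_fr, valO_fr, valO_fr, hr y hy.2,
      Localization.mk_mul, Localization.mk_mul, Localization.mk_mul, Localization.mk_eq_mk_iff, Localization.r_iff_exists]
    refine ⟨1, ?_⟩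
    simp only [OneMemClass.coe_one, one_mul, Submonoid.coe_mul]
    ring

/-- `Γ_*(F)~ ⟶ F`. -/
noncomputable def beta : _root_.GrMod.tilde 𝒜 (gamDeg 𝒜 F f hf) 0 ⟶ F :=
  ⟨PresheafOfModules.homMk
    { app := fun V => AddCommGrpCat.ofHom
        (AddMonoidHom.mk' (fun s : Sec (ℳ := gamDeg 𝒜 F f hf) 0 V.unop => (exists_cor hcov s).choose)
          fun s s' => cor_unique hcov (exists_cor hcov (s + s')).choose_spec
            ((exists_cor hcov s).choose_spec.add hcov (exists_cor hcov s').choose_spec))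
      naturality := fun V V' g => by
        ext s
        exact cor_unique hcov (exists_cor hcov _).choose_spec ((exists_cor hcov s).choose_spec.res (leOfHom g.unop)) }
    fun V r s => cor_unique hcov (exists_cor hcov _).choose_spec ((exists_cor hcov s).choose_spec.smul hcov r)⟩

theorem cor_beta {V : (Proj 𝒜).Opens} (s : Γ(_root_.GrMod.tilde 𝒜 (gamDeg 𝒜 F f hf) 0, V)) :
    Cor s ((beta (F := F) (hf := hf) hcov).app V s) := (exists_cor hcov s).choose_spec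

theorem basicOpen_fr {f₀ : A} (h₀ : f₀ ∈ 𝒜 1) {d : ℕ} (a : 𝒜 d) :
    (Proj 𝒜).basicOpen (fr 𝒜 h₀ d a) = Proj.basicOpen 𝒜 f₀ ⊓ Proj.basicOpen 𝒜 (a : A) := by
  rw [fr, GrTw11.basicOpen_awayToSection 𝒜 Nat.one_pos h₀ _, Proj.basicOpen_mul]

theorem fr_pow {f₀ : A} (h₀ : f₀ ∈ 𝒜 1) {d : ℕ} (a : 𝒜 d) (N : ℕ) :
    fr 𝒜 h₀ d a ^ N = fr 𝒜 h₀ (N * d) ⟨(a : A) ^ N, GrTw11.pow_mem_smul 𝒜 a.2 N⟩ :=
  sectionO_ext fun x hx => by
    rw [valO_pow, valO_fr, valO_fr, GrTw11.mk_pow]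
    congr 1
    exact Subtype.ext ((pow_mul f₀ d N).symm.trans (congrArg (f₀ ^ ·) (mul_comm d N)))

theorem gam_ext {d : ℕ} {m : Gam 𝒜 F f hf} (hm : m ∈ gamDeg 𝒜 F f hf d)
    (h : ∀ i, co 𝒜 F f hf (m.1 i) d = 0) : m = 0 := by
  refine Subtype.ext (funext fun i => piece_ext 𝒜 F f hf fun n => ?_)
  by_cases hn : n = d
  · subst hn; exact h i
  · exact hm i n hn

variable [Fact (Coh.IsQCoh F)]

theorem beta_injective_basicOpen {h₀ : A} {d : ℕ} (hd : 0 < d) (hh : h₀ ∈ 𝒜 d) (i : ι)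
    (hhi : Proj.basicOpen 𝒜 h₀ ≤ Proj.basicOpen 𝒜 (f i)) :
    Function.Injective ((beta (F := F) (hf := hf) hcov).app (Proj.basicOpen 𝒜 h₀)) := by
  haveI : Coh.IsQCoh F := Fact.out
  refine (injective_iff_map_eq_zero _).2 fun s hs => ?_
  obtain ⟨a, k, m, hm, ha, hval⟩ := exists_eq_frac_of_pos 𝒜 (gamDeg 𝒜 F f hf) hd hh (s : Sec (ℳ := gamDeg 𝒜 F f hf) 0 _)
  have hak : a = k * d := by omega
  subst hak
  let t : 𝒜 (k * d) := ⟨h₀ ^ k, GrTw11.pow_mem_smul 𝒜 hh k⟩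
  have hWt : Proj.basicOpen 𝒜 h₀ ≤ Proj.basicOpen 𝒜 (t : A) := fun x hx => GrTw11.pow_notMem 𝒜 hx k
  have q := (cor_beta hcov s).isQuot (t := t) hm le_rfl hhi hWt hval
  rw [hs, map_zero] at q
  have hj : ∀ j, ∃ N : ℕ, fr 𝒜 (hf j) d ⟨h₀, hh⟩ ^ N • co 𝒜 F f hf (m.1 j) (k * d) = 0 := fun j => by
    refine exists_pow_smul_eq_zero_affine F (Proj.isAffineOpen_basicOpen 𝒜 (f j) (hf j) Nat.one_pos) _ _ ?_
    have e : (Proj 𝒜).basicOpen (fr 𝒜 (hf j) d ⟨h₀, hh⟩) ≤ Proj.basicOpen 𝒜 (f j) ⊓ Proj.basicOpen 𝒜 h₀ :=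
      (basicOpen_fr (hf j) ⟨h₀, hh⟩).le
    have q' := (q.restrict (e.trans inf_le_right)).change_index (j := j) (e.trans inf_le_left)
    unfold IsQuot at q'
    rw [map_zero, smul_zero] at q'
    exact q'.symm
  choose N hN using hj
  have hz : h₀ ^ (∑ j, N j) • m = 0 := by
    refine gam_ext (smul_mem_graded 𝒜 (GrTw11.pow_mem_smul 𝒜 hh _) hm) fun j => ?_
    rw [co_smul_add j ⟨h₀ ^ _, GrTw11.pow_mem_smul 𝒜 hh _⟩, ← fr_pow (hf j) ⟨h₀, hh⟩]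
    obtain ⟨c, hc⟩ := Nat.exists_eq_add_of_le (Finset.single_le_sum (fun l _ => Nat.zero_le (N l)) (Finset.mem_univ j))
    rw [hc, pow_add, mul_comm, mul_smul, hN, smul_zero]
  refine sec_ext (n := 0) (ℳ := gamDeg 𝒜 F f hf) fun x hx => ?_
  rw [hval x hx, (mkx_eq_zero_iff 𝒜 _).2 ⟨_, GrTw11.pow_notMem 𝒜 hx _, hz⟩]
  rfl

theorem beta_surjective_basicOpen {h₀ : A} {d : ℕ} (hd : 0 < d) (hh : h₀ ∈ 𝒜 d) :
    Function.Surjective ((beta (F := F) (hf := hf) hcov).app (Proj.basicOpen 𝒜 h₀)) := by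
  haveI : Coh.IsQCoh F := Fact.out
  intro ρ
  let D : ι → (Proj 𝒜).Opens := fun j => Proj.basicOpen 𝒜 (f j)
  let r : ∀ j, Γ(Proj 𝒜, D j) := fun j => fr 𝒜 (hf j) d ⟨h₀, hh⟩
  have haff : ∀ j, IsAffineOpen (D j) := fun j => Proj.isAffineOpen_basicOpen 𝒜 (f j) (hf j) Nat.one_pos
  have hbo : ∀ j, (Proj 𝒜).basicOpen (r j) = D j ⊓ Proj.basicOpen 𝒜 h₀ := fun j => basicOpen_fr (hf j) ⟨h₀, hh⟩
  choose K t₀ ht₀ using fun j => exists_pow_smul_eq_res_affine F (haff j) (r j)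
    (M1.mres F ((hbo j).le.trans inf_le_right) ρ)
  let K' := ∑ j, K j
  have hK' : ∀ j, ∃ t : Γ(F, D j), M1.mres F (inf_le_left : D j ⊓ Proj.basicOpen 𝒜 h₀ ≤ D j) t =
      ores inf_le_left (r j) ^ K' • M1.mres F inf_le_right ρ := fun j => by
    obtain ⟨c, hc⟩ := Nat.exists_eq_add_of_le (Finset.single_le_sum (fun l _ => Nat.zero_le (K l)) (Finset.mem_univ j))
    refine ⟨r j ^ c • t₀ j, ?_⟩
    have h1 := congrArg (M1.mres F (hbo j).ge) (ht₀ j)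
    rw [mres_mres, mres_smul, map_pow, ores_ores, mres_mres] at h1
    rw [mres_smul, map_pow, h1, smul_smul, ← pow_add, show K' = K j + c from hc, add_comm]
  choose t ht using hK'
  let Kd := K' * d
  have hdef : ∀ p : ι × ι, ∃ N : ℕ, ores (inf_le_right : D p.1 ⊓ D p.2 ≤ D p.2) (r p.2) ^ N •
      (M1.mres F (inf_le_right : D p.1 ⊓ D p.2 ≤ D p.2) (t p.2) -
        ores (inf_le_right : D p.1 ⊓ D p.2 ≤ D p.2)
            (fr 𝒜 (hf p.2) Kd ⟨f p.1 ^ Kd, by simpa using SetLike.pow_mem_graded Kd (hf p.1)⟩) •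
          M1.mres F (inf_le_left : D p.1 ⊓ D p.2 ≤ D p.1) (t p.1)) = 0 := by
    rintro ⟨i, j⟩
    have hij : IsAffineOpen (D i ⊓ D j) := by
      rw [show D i ⊓ D j = Proj.basicOpen 𝒜 (f i * f j) from (Proj.basicOpen_mul 𝒜 _ _).symm]
      exact Proj.isAffineOpen_basicOpen 𝒜 _ (SetLike.mul_mem_graded (hf i) (hf j)) Nat.two_pos
    refine exists_pow_smul_eq_zero_affine F hij _ _ ?_
    have hle : (Proj 𝒜).basicOpen (ores (inf_le_right : D i ⊓ D j ≤ D j) (r j)) ≤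
        (D i ⊓ Proj.basicOpen 𝒜 h₀) ⊓ (D j ⊓ Proj.basicOpen 𝒜 h₀) := by
      refine ((Proj 𝒜).basicOpen_res (r j) _).le.trans ?_
      rw [hbo]
      exact le_inf (le_inf (inf_le_left.trans inf_le_left) (inf_le_right.trans inf_le_right)) inf_le_right
    have hi' := congrArg (M1.mres F (hle.trans inf_le_left)) (ht i)
    have hj' := congrArg (M1.mres F (hle.trans inf_le_right)) (ht j)
    rw [mres_mres, mres_smul, map_pow, ores_ores, mres_mres] at hi' hj'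
    rw [map_sub, mres_smul, mres_mres, mres_mres, ores_ores, hi', hj', smul_smul, sub_eq_zero]
    congr 1
    refine sectionO_ext fun x hx => ?_
    simp only [valO_mul, valO_pow, valO_map, r, valO_fr, GrTw11.mk_pow, Localization.mk_mul]
    rw [Localization.mk_eq_mk_iff, Localization.r_iff_exists]
    refine ⟨1, ?_⟩
    simp only [OneMemClass.coe_one, one_mul, Submonoid.coe_mul, Kd]
    ring
  choose N hN using hdef
  let N' := ∑ p, N p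
  let s : ∀ j, Γ(F, D j) := fun j => r j ^ N' • t j
  have hcompat : Compat 𝒜 F f hf (N' * d + Kd) s := fun i j => by
    obtain ⟨c, hc⟩ := Nat.exists_eq_add_of_le (Finset.single_le_sum (fun p _ => Nat.zero_le (N p)) (Finset.mem_univ (i, j)))
    have h1 := congrArg (ores (inf_le_right : D i ⊓ D j ≤ D j) (r j) ^ c • ·) (hN (i, j))
    simp only [smul_smul, ← pow_add, smul_zero, add_comm c (N (i, j)), ← hc, smul_sub, sub_eq_zero] at h1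
    simp only [s, mres_smul, map_pow]
    refine h1.trans ?_
    rw [smul_smul]
    congr 1
    refine sectionO_ext fun x hx => ?_
    simp only [valO_mul, valO_pow, valO_map, r, valO_fr, GrTw11.mk_pow, Localization.mk_mul]
    rw [Localization.mk_eq_mk_iff, Localization.r_iff_exists]
    refine ⟨1, ?_⟩
    simp only [OneMemClass.coe_one, one_mul, Submonoid.coe_mul, Kd]
    rw [show N' = N (i, j) + c from hc]
    ring
  let m : Gam 𝒜 F f hf :=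
    ⟨fun j => (PolynomialModule.single _ (N' * d + Kd) (s j) : PolynomialModule _ _), fun n => by
      by_cases h : n = N' * d + Kd
      · subst h
        convert hcompat using 1
        funext j
        exact Finsupp.single_eq_same
      · convert compat_zero 𝒜 F f hf n using 1
        funext j
        exact Finsupp.single_eq_of_ne h⟩
  have hm : m ∈ gamDeg 𝒜 F f hf (N' * d + Kd) := fun j n h => Finsupp.single_eq_of_ne h
  let u : 𝒜 (N' * d + Kd) := ⟨h₀ ^ (N' + K'), (add_mul N' K' d) ▸ GrTw11.pow_mem_smul 𝒜 hh _⟩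
  have hWu : Proj.basicOpen 𝒜 h₀ ≤ Proj.basicOpen 𝒜 (u : A) := fun x hx => GrTw11.pow_notMem 𝒜 hx _
  let σ₀ : Sec (ℳ := gamDeg 𝒜 F f hf) 0 (Proj.basicOpen 𝒜 h₀) := frac 𝒜 _ hm u.2 (Or.inl (by simp)) hWu
  refine ⟨σ₀, cor_unique hcov (cor_beta hcov σ₀) fun x hx => ?_⟩
  obtain ⟨j, hj⟩ := hcov x
  refine ⟨j, _, m, u, D j ⊓ Proj.basicOpen 𝒜 h₀, inf_le_right, inf_le_left, inf_le_right.trans hWu, ⟨hj, hx⟩, hm,
    fun y hy => rfl, ?_⟩
  show ores inf_le_left (fr 𝒜 (hf j) _ u) • M1.mres F inf_le_right ρ =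
    M1.mres F inf_le_left (co 𝒜 F f hf (m.1 j) (N' * d + Kd))
  rw [show co 𝒜 F f hf (m.1 j) (N' * d + Kd) = s j from Finsupp.single_eq_same]
  simp only [s]
  rw [mres_smul, ht j, smul_smul, map_pow, ← pow_add, ← map_pow]
  congr 2
  refine sectionO_ext fun y hy => ?_
  simp only [valO_pow, r, valO_fr, GrTw11.mk_pow, u]
  congr 1
  refine Subtype.ext ?_
  simp only [Kd]
  ring

theorem isIso_beta : IsIso (beta (F := F) (hf := hf) hcov) := by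
  refine Scheme.Modules.Hom.isIso_iff_isIso_app.2 fun V => (ConcreteCategory.isIso_iff_bijective _).2
    (bijective_app_of_small _ ⊤ (fun V _ x hx => ?_) le_top)
  obtain ⟨i, hi⟩ := hcov x
  obtain ⟨g, ⟨d, hd, hg⟩, hxg, hgV⟩ := exists_basicOpen_pos_nhd 𝒜 hx
  refine ⟨Proj.basicOpen 𝒜 (g * f i), ?_, ?_, beta_injective_basicOpen hcov (Nat.succ_pos d)
    (SetLike.mul_mem_graded hg (hf i)) i (Proj.basicOpen_mono 𝒜 _ _ (dvd_mul_left _ _)),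
    beta_surjective_basicOpen hcov (Nat.succ_pos d) (SetLike.mul_mem_graded hg (hf i))⟩
  · rw [Proj.basicOpen_mul]; exact ⟨hxg, hi⟩
  · exact (Proj.basicOpen_mono 𝒜 _ _ (dvd_mul_right _ _)).trans hgV

end Groth.Agent.GrMod11
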