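import Groth.Agent.Lib.GrMod11.Frac
import Groth.Agent.Lib.GrTw11.QCoh

/-!
`M(n)~` is quasi-coherent on `Proj` of any graded ring.
-/

set_option autoImplicit false

open CategoryTheory CategoryTheory.Limits AlgebraicGeometry TopologicalSpace Opposite HomogeneousLocalization

universe u

namespace Groth.Agent.GrMod11

open _root_.GrMod Groth.Agent.GrTw11 Groth.Agent.Twist

variable {A σ : Type u} [CommRing A] [SetLike σ A] [AddSubgroupClass σ A] (𝒜 : ℕ → σ) [GradedRing 𝒜]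
  {M τ : Type u} [AddCommGroup M] [Module A M] [SetLike τ M] [AddSubgroupClass τ M] (ℳ : ℕ → τ)
  [SetLike.GradedSMul 𝒜 ℳ] [DirectSum.Decomposition ℳ]

/-- `M(n)~` is quasi-coherent. -/
theorem isQCoh_tilde (n : ℤ) : Coh.IsQCoh (_root_.GrMod.tilde 𝒜 ℳ n) := by
  let ι := {g : A // ∃ d : ℕ, 0 < d ∧ g ∈ 𝒜 d}
  have haff : ∀ g : ι, IsAffineOpen (Proj.basicOpen 𝒜 g.1) := fun ⟨g, d, hd, hg⟩ =>
    Proj.isAffineOpen_basicOpen 𝒜 g hg hd
  refine Groth.Agent.M1.isQCoh_of_openImmersion_cover (fun g : ι => (haff g).fromSpec) (fun x => ?_) fun ⟨f, d, hd, hf⟩ => ?_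
  · have hx : x ∈ (⨆ g : ι, Proj.basicOpen 𝒜 g.1) := by rw [RelProj11.iSup_basicOpen_pos 𝒜]; trivial
    obtain ⟨g, hg⟩ := Opens.mem_iSup.1 hx
    exact ⟨g, by rw [IsAffineOpen.range_fromSpec]; exact hg⟩
  have hrep : ∀ r : Γ(Proj 𝒜, Proj.basicOpen 𝒜 f), ∃ (j : ℕ) (b : A) (hb : b ∈ 𝒜 (j • d)),
      r = Proj.awayToSection 𝒜 f (Away.mk 𝒜 hf j b hb) := fun r => by
    obtain ⟨z, rfl⟩ := ((ConcreteCategory.isIso_iff_bijective (Proj.basicOpenIsoAway 𝒜 f hf hd).hom).1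
      inferInstance).2 r
    obtain ⟨j, b, hb, rfl⟩ := Away.mk_surjective 𝒜 hf z
    exact ⟨j, b, hb, by rw [Proj.basicOpenIsoAway_hom]⟩
  refine isQCoh_restrict_fromSpec_of_localize _ (haff ⟨f, d, hd, hf⟩) (fun r t ht => ?_) fun r s => ?_
  all_goals
    obtain ⟨j, b, hb, rfl⟩ := hrep r
    have hU := basicOpen_awayToSection 𝒜 hd hf hb
    have hfb : f * b ∈ 𝒜 (d + j • d) := SetLike.mul_mem_graded hf hb
    have hdpos : 0 < d + j • d := by omega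
    have hval : ∀ (N : ℕ) (x : ProjectiveSpectrum 𝒜) (hx : x ∈ Proj.basicOpen 𝒜 f),
        valO (Proj.awayToSection 𝒜 f (Away.mk 𝒜 hf j b hb) ^ N) x hx =
          Localization.mk (b ^ N) ⟨(f ^ j) ^ N, pow_notMem 𝒜 (pow_notMem 𝒜 hx j) N⟩ := fun N x hx => by
      rw [valO_pow, valO_awayToSection 𝒜 hf hb x hx (pow_notMem 𝒜 hx j), GrTw11.mk_pow]
  · obtain ⟨i, k, a, ha, hi, hta⟩ := exists_eq_frac_of_pos 𝒜 ℳ hd hf (t : Sec (ℳ := ℳ) n _)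
    obtain ⟨N, hN⟩ := exists_pow_smul_eq_zero_of_mk 𝒜 ℳ hdpos hfb ha fun x hx => by
      have hxf : x ∈ Proj.basicOpen 𝒜 f := fun h => hx (Ideal.mul_mem_right _ _ h)
      refine ⟨f ^ k, GrTw11.pow_notMem 𝒜 hxf k, ?_⟩
      rw [← hta x hxf]
      exact congrArg (fun q => val (n := n) (ℳ := ℳ) q x (hU.ge hx)) ht
    refine ⟨N, sec_ext fun x hx => ?_⟩
    show val (n := n) (ℳ := ℳ) _ x hx = 0
    rw [val_smul, hval, hta x hx, mk_smul_mkx 𝒜 _ _ _ _ _ _ (fun h => (x.isPrime.mem_or_mem h).elim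
      (pow_notMem 𝒜 (pow_notMem 𝒜 hx j) N) (pow_notMem 𝒜 hx k)), mkx_eq_zero_iff]
    exact ⟨f ^ N, GrTw11.pow_notMem 𝒜 hx N, by rw [smul_smul, ← mul_pow, hN]⟩
  · obtain ⟨i, k, a, ha, hi, hsa⟩ := exists_eq_frac_of_pos 𝒜 ℳ hdpos hfb
      (Groth.Agent.M1.mres (_root_.GrMod.tilde 𝒜 ℳ n) hU.ge s : Sec (ℳ := ℳ) n _)
    let p := k * (j + 1)
    refine ⟨k, frac 𝒜 (Proj.basicOpen 𝒜 f) ha (pow_mem_smul 𝒜 hf p) (n := n) ?_
      (fun x hx => GrTw11.pow_notMem 𝒜 hx p), sec_ext fun x hx => ?_⟩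
    · refine Or.inl ?_
      rw [hi]; simp only [p, smul_eq_mul]; push_cast; ring
    · have hxfb : x ∈ Proj.basicOpen 𝒜 (f * b) := hU.le hx
      have hxf : x ∈ Proj.basicOpen 𝒜 f := fun h => hxfb (Ideal.mul_mem_right _ _ h)
      have hsx : val (n := n) (ℳ := ℳ) s x hx = mkx 𝒜 x a ((f * b) ^ k) (GrTw11.pow_notMem 𝒜 hxfb k) := hsa x hxfb
      refine Eq.trans ?_ (val_smul _ _ x hx).symm
      rw [valO_pow]
      show mkx 𝒜 x a (f ^ p) _ = _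
      rw [show valO (M1.ores _ _) x hx = valO (Proj.awayToSection 𝒜 f (Away.mk 𝒜 hf j b hb)) x hxf from rfl,
        ← valO_pow, hval, hsx, mk_smul_mkx 𝒜 _ _ _ _ _ _ (fun h => (x.isPrime.mem_or_mem h).elim
          (pow_notMem 𝒜 (pow_notMem 𝒜 hxf j) k) (pow_notMem 𝒜 hxfb k)), mkx_eq_iff]
      refine ⟨1, one_nin x, ?_⟩
      rw [one_smul, one_smul, smul_smul]
      congr 1
      simp only [p]; ring

end Groth.Agent.GrMod11
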