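import Groth.Agent.Lib.GrMod11.Exact
import Groth.Agent.Lib.ModM1.Exact

/-!
Stalks of `M(n)~`; when `M(n)~` is zero.
-/

set_option autoImplicit false

open CategoryTheory CategoryTheory.Limits AlgebraicGeometry TopologicalSpace Opposite
open scoped HomogeneousIdeal

universe u

namespace Groth.Agent.GrMod11

open _root_.GrMod

variable {A σ : Type u} [CommRing A] [SetLike σ A] [AddSubgroupClass σ A] (𝒜 : ℕ → σ) [GradedRing 𝒜]
  {M τ : Type u} [AddCommGroup M] [Module A M] [SetLike τ M] [AddSubgroupClass τ M] (ℳ : ℕ → τ)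
  [SetLike.GradedSMul 𝒜 ℳ]

theorem stalkToFiber_bijective (n : ℤ) (p : ProjectiveSpectrum 𝒜) :
    Function.Bijective (TopCat.stalkToFiber (isLocFrac 𝒜 ℳ n) p) := by
  constructor
  · refine TopCat.stalkToFiber_injective _ _ ?_
    rintro U V fU hU fV hV e
    rcases hU ⟨p, U.2⟩ with ⟨Va, ma, ia, i, j, ⟨a, ha⟩, ⟨s, hs⟩, nina, ca, wa⟩
    rcases hV ⟨p, V.2⟩ with ⟨Vb, mb, ib, i', j', ⟨b, hb⟩, ⟨t, ht⟩, ninb, cb, wb⟩
    have e1 : mkx 𝒜 p a s (nina ⟨p, ma⟩) = mkx 𝒜 p b t (ninb ⟨p, mb⟩) :=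
      ((wa ⟨p, ma⟩).symm.trans (congrArg Subtype.val e)).trans (wb ⟨p, mb⟩)
    obtain ⟨w, hw, he⟩ := (mkx_eq_iff 𝒜 _ _).1 e1
    refine ⟨⟨Va ⊓ Vb ⊓ ProjectiveSpectrum.basicOpen 𝒜 w, ⟨ma, mb⟩, hw⟩,
      homOfLE (inf_le_left.trans (inf_le_left.trans ia.le)), homOfLE (inf_le_left.trans (inf_le_right.trans ib.le)),
      fun z => Subtype.ext ?_⟩
    exact ((wa ⟨z.1, z.2.1.1⟩).trans ((mkx_eq_iff 𝒜 _ _).2 ⟨w, z.2.2, he⟩)).trans (wb ⟨z.1, z.2.1.2⟩).symm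
  · refine TopCat.stalkToFiber_surjective _ _ fun q => ?_
    rcases exists_frac 𝒜 ℳ q.2 with h0 | ⟨i, j, m, s, hs, hm, hsm, hij, he⟩
    · exact ⟨⟨⊤, trivial⟩, 0, GrMod.zero_mem' n (op ⊤), Subtype.ext h0.symm⟩
    · exact ⟨⟨Proj.basicOpen 𝒜 s, hs⟩, (frac 𝒜 (n := n) (Proj.basicOpen 𝒜 s) hm hsm (Or.inl hij) le_rfl).1,
        (frac 𝒜 (n := n) (Proj.basicOpen 𝒜 s) hm hsm (Or.inl hij) le_rfl).2, Subtype.ext he.symm⟩

/-- All sections vanish if all fractions vanish. -/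
theorem isZero_tilde_of_forall (n : ℤ)
    (h : ∀ (x : ProjectiveSpectrum 𝒜) (q : LocMod 𝒜 (M := M) x), q ∈ tildeAt 𝒜 ℳ n x → q = 0) :
    IsZero (tilde 𝒜 ℳ n) := by
  rw [IsZero.iff_id_eq_zero]
  ext U s
  exact sec_ext (n := n) (ℳ := ℳ) fun x hx => h x _ (val_mem (n := n) (ℳ := ℳ) s x hx)

variable [DirectSum.Decomposition ℳ]

omit [DirectSum.Decomposition ℳ] in
theorem isZero_tilde_of_locally_nilpotent (n : ℤ)
    (h : ∀ (i : ℕ) (z : M) (d : ℕ) (f : A), z ∈ ℳ i → 0 < d → f ∈ 𝒜 d → ∃ k : ℕ, f ^ k • z = 0) :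
    IsZero (tilde 𝒜 ℳ n) := by
  refine isZero_tilde_of_forall 𝒜 ℳ n fun x q hq => ?_
  rcases exists_frac 𝒜 ℳ hq with rfl | ⟨i, j, m, s, hs, hm, -, -, rfl⟩
  · rfl
  have hxc : x ∈ (⨆ g : {g : A // ∃ k : ℕ, 0 < k ∧ g ∈ 𝒜 k}, Proj.basicOpen 𝒜 g.1) := by
    rw [RelProj11.iSup_basicOpen_pos 𝒜]; trivial
  obtain ⟨⟨g, e, he, hg⟩, hxg⟩ := TopologicalSpace.Opens.mem_iSup.1 hxc
  obtain ⟨k, hk⟩ := h i m e g hm he hg
  exact (mkx_eq_zero_iff 𝒜 hs).2 ⟨g ^ k, GrTw11.pow_notMem 𝒜 hxg k, hk⟩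

omit [DirectSum.Decomposition ℳ] in
theorem isZero_tilde_of_eventually_zero (n : ℤ) (n₀ : ℕ) (h : ∀ k, n₀ ≤ k → ∀ m ∈ ℳ k, m = 0) :
    IsZero (tilde 𝒜 ℳ n) :=
  isZero_tilde_of_locally_nilpotent 𝒜 ℳ n fun i _ _ _ hm hd hf =>
    ⟨n₀, h _ ((Nat.le_mul_of_pos_right n₀ hd).trans (Nat.le_add_right _ i)) _
      (smul_mem_graded 𝒜 (GrTw11.pow_mem_smul 𝒜 hf n₀) hm)⟩

/-- If `M(n)~` vanishes then a fraction of degree `n` does. -/
theorem exists_pow_smul_eq_zero_of_isZero {n : ℤ} (h : IsZero (tilde 𝒜 ℳ n)) {f : A} {d : ℕ} (hd : 0 < d)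
    (hf : f ∈ 𝒜 d) {i k : ℕ} {m : M} (hm : m ∈ ℳ i) (hi : (i : ℤ) = k * d + n) : ∃ N : ℕ, f ^ N • m = 0 := by
  let s : Sec (ℳ := ℳ) n (Proj.basicOpen 𝒜 f) := frac 𝒜 _ hm (GrTw11.pow_mem_smul 𝒜 hf k)
    (Or.inl (by rw [hi]; push_cast; ring)) fun x hx => GrTw11.pow_notMem 𝒜 hx k
  have hs : (s : Γ(tilde 𝒜 ℳ n, Proj.basicOpen 𝒜 f)) = 0 :=
    congr($(congrArg (fun φ => Scheme.Modules.Hom.app φ (Proj.basicOpen 𝒜 f)) ((IsZero.iff_id_eq_zero _).1 h)) s)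
  exact exists_pow_smul_eq_zero_of_mk 𝒜 ℳ hd hf hm fun x hx =>
    ⟨f ^ k, GrTw11.pow_notMem 𝒜 hx k, congrArg (fun t => val (n := n) (ℳ := ℳ) t x hx) hs⟩

theorem pow_smul_eq_zero_of_isZero_of_degOne (h : IsZero (tilde 𝒜 ℳ 0))
    (hgen : (𝒜₊).toIdeal = Ideal.span (𝒜 1 : Set A)) (z : M) :
    (𝒜₊).toIdeal ≤ Ideal.radical (LinearMap.toSpanSingleton A M z).ker := by
  classical
  rw [hgen, Ideal.span_le]
  intro g hg
  have hz : ∀ i, ∃ N : ℕ, g ^ N • (DirectSum.decompose ℳ z i : M) = 0 := fun i =>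
    exists_pow_smul_eq_zero_of_isZero 𝒜 ℳ h Nat.one_pos hg (k := i) (SetLike.coe_mem _) (by simp)
  choose N hN using hz
  refine ⟨∑ i ∈ (DirectSum.decompose ℳ z).support, N i, LinearMap.mem_ker.2 ?_⟩
  rw [LinearMap.toSpanSingleton_apply]
  have hle : ∀ i ∈ (DirectSum.decompose ℳ z).support, N i ≤ ∑ j ∈ (DirectSum.decompose ℳ z).support, N j :=
    fun i hi => Finset.single_le_sum (fun j _ => Nat.zero_le (N j)) hi
  generalize ∑ j ∈ (DirectSum.decompose ℳ z).support, N j = K at hle ⊢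
  conv_lhs => rw [← DirectSum.sum_support_decompose ℳ z]
  rw [Finset.smul_sum]
  refine Finset.sum_eq_zero fun i hi => ?_
  obtain ⟨c, hc⟩ := Nat.exists_eq_add_of_le (hle i hi)
  rw [hc, pow_add, mul_comm, mul_smul, hN, smul_zero]

omit [DirectSum.Decomposition ℳ] [SetLike.GradedSMul 𝒜 ℳ] in
/-- When the irrelevant ideal is generated in degree one, `𝒜 l` lies in its `l`-th power. -/
theorem mem_pow_irrelevant (hgen : (𝒜₊).toIdeal = Ideal.span (𝒜 1 : Set A)) (l : ℕ) :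
    ∀ a ∈ 𝒜 l, a ∈ (𝒜₊).toIdeal ^ l := by
  classical
  induction l with
  | zero => intro a _; simp
  | succ l ih =>
    intro a ha
    have h1 : a ∈ Ideal.span (𝒜 1 : Set A) :=
      hgen ▸ HomogeneousIdeal.mem_irrelevant_of_mem 𝒜 (Nat.succ_pos l) ha
    rw [← DirectSum.decompose_of_mem_same 𝒜 ha]
    clear ha
    induction h1 using Submodule.span_induction with
    | mem w hw =>
      by_cases h : l = 0
      · subst h
        rw [DirectSum.decompose_of_mem_same 𝒜 hw, pow_one]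
        exact HomogeneousIdeal.mem_irrelevant_of_mem 𝒜 Nat.one_pos hw
      · rw [DirectSum.decompose_of_mem_ne 𝒜 hw (by omega)]; exact zero_mem _
    | zero => simp
    | add u v _ _ hu hv => rw [DirectSum.decompose_add, DirectSum.add_apply, AddMemClass.coe_add]; exact add_mem hu hv
    | smul r u hu _ =>
      clear * - hu ih hgen
      induction hu using Submodule.span_induction generalizing r with
      | mem w hw =>
        rw [smul_eq_mul, DirectSum.coe_decompose_mul_of_right_mem_of_le 𝒜 hw (by omega), pow_succ]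
        exact Ideal.mul_mem_mul (ih _ (SetLike.coe_mem _)) (HomogeneousIdeal.mem_irrelevant_of_mem 𝒜 Nat.one_pos hw)
      | zero => simp
      | add u v _ _ hu hv =>
        rw [smul_add, DirectSum.decompose_add, DirectSum.add_apply, AddMemClass.coe_add]; exact add_mem (hu r) (hv r)
      | smul r' u _ hu => rw [smul_smul]; exact hu (r * r')

theorem eventually_zero_of_isZero (h : IsZero (tilde 𝒜 ℳ 0)) (hgen : (𝒜₊).toIdeal = Ideal.span (𝒜 1 : Set A))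
    (hfg : (𝒜₊).toIdeal.FG) {n : ℕ} (hTF : (Submodule.span A (⋃ k ∈ Set.Ici n, (ℳ k : Set M))).FG) :
    ∃ n₁ : ℕ, ∀ k, n₁ ≤ k → ∀ m ∈ ℳ k, m = 0 := by
  classical
  obtain ⟨T, hT, hspan⟩ := (Submodule.fg_span_iff_fg_span_finset_subset _).1 hTF
  have hdeg : ∀ t : T, ∃ i, (t : M) ∈ ℳ i := fun t => by
    obtain ⟨i, -, hi⟩ := Set.mem_iUnion₂.1 (hT t.2)
    exact ⟨i, hi⟩
  choose e he using hdeg
  choose K hK using fun t : T =>
    Ideal.exists_pow_le_of_le_radical_of_fg (pow_smul_eq_zero_of_isZero_of_degOne 𝒜 ℳ h hgen (t : M)) hfg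
  refine ⟨n + ∑ t : T, (e t + K t), fun k hk m hm => ?_⟩
  have hmem : m ∈ Submodule.span A (⋃ k ∈ Set.Ici n, (ℳ k : Set M)) :=
    Submodule.subset_span (Set.mem_iUnion₂.2 ⟨k, le_of_add_le_left hk, hm⟩)
  have key : ∀ y ∈ Submodule.span A (T : Set M), (DirectSum.decompose ℳ y k : M) = 0 := fun y hy => by
    suffices ∀ (r : A), (DirectSum.decompose ℳ (r • y) k : M) = 0 by simpa using this 1
    induction hy using Submodule.span_induction with
    | mem w hw =>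
      intro r
      induction r using DirectSum.Decomposition.inductionOn 𝒜 with
      | zero => simp
      | @homogeneous j a =>
        by_cases hjk : j + e ⟨w, hw⟩ = k
        · rw [← hjk, DirectSum.decompose_of_mem_same ℳ (smul_mem_graded 𝒜 a.2 (he ⟨w, hw⟩))]
          have hle : K ⟨w, hw⟩ ≤ j := by
            have := Finset.single_le_sum (f := fun t : T => e t + K t) (fun t _ => Nat.zero_le _)
              (Finset.mem_univ ⟨w, hw⟩)
            omega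
          exact LinearMap.mem_ker.1 (hK ⟨w, hw⟩ (Ideal.pow_le_pow_right hle (mem_pow_irrelevant 𝒜 hgen j a a.2)))
        · exact DirectSum.decompose_of_mem_ne ℳ (smul_mem_graded 𝒜 a.2 (he ⟨w, hw⟩)) hjk
      | add a b ha hb => rw [add_smul, DirectSum.decompose_add, DirectSum.add_apply, AddMemClass.coe_add, ha, hb,
          add_zero]
    | zero => intro r; simp
    | add u v _ _ hu hv =>
      intro r
      rw [smul_add, DirectSum.decompose_add, DirectSum.add_apply, AddMemClass.coe_add, hu, hv, add_zero]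
    | smul r' u _ hu => intro r; rw [smul_smul]; exact hu _
  rw [← DirectSum.decompose_of_mem_same ℳ hm]
  exact key m (hspan ▸ hmem)

end Groth.Agent.GrMod11
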